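/-
The smaller group inside the presented group on twelve generators, with its points.
-/
import Cfsg.Agent.Lib.Spor.Fi23Out.Points
import Cfsg.Agent.Lib.Spor.Fi24Class.Basic

set_option autoImplicit false
set_option maxRecDepth 100000

namespace CfsgLib.Spor.Fi24Out

open CfsgLib.Spor.TC CfsgLib.Spor.Fi24 CfsgLib.Spor.Fi24Class

noncomputable section

attribute [local instance] Fi23.actionF Fi24.finite_X

local notation "Gp23" => Fi23Out.Gp
local notation "Pt23" => Fi23Out.Pt

/-- The smaller group is the stabilizer of the first point in the commutator subgroup. -/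
def iotaEquiv : Gp23 ≃* K₀ :=
  (MulEquiv.ofBijective _ (theta_bijective all_points all_phi all_roots) :
      Pres 10 Fi23.relsG ≃* subX ⧸ Subgroup.zpowers zX).trans (MulEquiv.ofBijective _ toSmall_bijective).symm

/-- The embedding. -/
def iota : Gp23 →* X₀ := K₀.subtype.comp iotaEquiv.toMonoidHom

theorem iota_mem (g : Gp23) : iota g ∈ K₀ := (iotaEquiv g).2

theorem iota_injective : Function.Injective iota :=
  fun _ _ h => iotaEquiv.injective (Subtype.ext h)

theorem exists_iota {x : X₀} (h : x ∈ K₀) : ∃ g : Gp23, iota g = x :=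
  ⟨iotaEquiv.symm ⟨x, h⟩, congrArg Subtype.val (iotaEquiv.apply_symm_apply _)⟩

theorem el23_eq {v : List ℕ} (hv : ∀ x ∈ v, x < 10) :
    Fi23Out.el v = ev (presGen 10 Fi23.relsG) v :=
  ev_congr fun x hx => Act.letters_of_lt (A := Fi23.ActF.act) (show x < Fi23.ActF.act.k from hv x hx)

theorem exists_el23 (g : Gp23) : ∃ v : List ℕ, (∀ x ∈ v, x < 10) ∧ Fi23Out.el v = g := by
  obtain ⟨v, hv, e⟩ := word_of_mem_closure (sat_presGen 10 Fi23.relsG).sq (emb := List.range 10)
    (show g ∈ Subgroup.closure (presGen 10 Fi23.relsG '' {x | x ∈ List.range 10}) by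
      rw [show {x | x ∈ List.range 10} = Set.Iio 10 by ext; simp, closure_presGen]; exact Subgroup.mem_top g)
  have hv' : ∀ x ∈ v, x < 10 := fun x hx => List.mem_range.1 (hv x hx)
  exact ⟨v, hv', (el23_eq hv').trans e.symm⟩

theorem iota_word {v : List ℕ} (hv : ∀ x ∈ v, x < 10) :
    iota (Fi23Out.el v) = el (v.map (· + 2)) ∨ iota (Fi23Out.el v) = el (v.map (· + 2)) * zee := by
  have h : toSmall (iotaEquiv (Fi23Out.el v)) =
      theta all_points all_phi all_roots (ev (presGen 10 Fi23.relsG) v) := by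
    rw [← el23_eq hv]
    exact (MulEquiv.ofBijective _ toSmall_bijective).apply_symm_apply _
  rw [theta_ev, toSmall, MonoidHom.comp_apply, QuotientGroup.mk'_apply, QuotientGroup.mk'_apply,
    QuotientGroup.eq] at h
  obtain ⟨b, hb⟩ : ∃ b : subX, b = ev liftX v := ⟨_, rfl⟩
  have eb : (b : X₀) = el (v.map (· + 2)) := hb ▸ ev_liftX hv
  rw [← hb] at h
  rcases zX_power all_points all_phi h with e | e
  · left
    rw [← eb]
    exact congrArg Subtype.val (inv_mul_eq_one.1 e)
  · right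
    rw [← eb]
    have e1 : (iota (Fi23Out.el v))⁻¹ * (b : X₀) = zee := congrArg Subtype.val e
    rw [inv_mul_eq_iff_eq_mul] at e1
    rw [e1, mul_assoc, Fi24Class.sq_gen, mul_one]

/-- The points of the smaller group among the larger ones. -/
def phiQ (c : Pt23) : Fin nPts := phiP all_phi c

theorem zee_fix (c : Pt23) : rho zee (phiQ c) = phiQ c := by
  rw [rho_zee]; exact fix_zero all_points all_phi c

theorem rho_el_phi {v : List ℕ} (hv : ∀ x ∈ v, x < 10) (c : Pt23) :
    rho (el (v.map (· + 2))) (phiQ c) = phiQ (Fi23Out.el v • c) := by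
  rw [rho_el, phiQ, intertwine all_points all_phi hv c]
  refine congrArg (phiP all_phi) (Fin.ext ?_)
  rw [Fi23Out.el_smul (Fi23Out.below_K hv), Fi23.ActF.valid.wact_eq (Fi23Out.below_K hv)]

theorem rho_iota (g : Gp23) (c : Pt23) : rho (iota g) (phiQ c) = phiQ (g • c) := by
  obtain ⟨v, hv, rfl⟩ := exists_el23 g
  rcases iota_word hv with e | e <;> rw [e]
  · exact rho_el_phi hv c
  · rw [Fi24Class.rho_mul, zee_fix, rho_el_phi hv]

theorem phi_gpt : phi (Fi23Out.ptN 0) = 965 := by decide +kernel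

theorem phiQ_gpt : phiQ (Fi23Out.gpt 0) = pt965 := Fin.ext phi_gpt

theorem phiQ_inA (c : Pt23) : InA (phiQ c) := by
  obtain ⟨u, hu⟩ := Fi23Out.trans_pt c
  obtain ⟨w, hw⟩ := Fi23Out.trans_pt (Fi23Out.gpt 0)
  have e : phiQ c = rho (iota (u * w⁻¹)) pt965 := by
    rw [← phiQ_gpt, rho_iota]
    congr 1
    rw [← hw, ← mul_smul, inv_mul_cancel_right, hu]
  exact (Set.ext_iff.1 orbit_965 _).1 ⟨_, (iota_mem _).1, e.symm⟩

theorem exists_phiQ {p : Fin nPts} (h : InA p) : ∃ c : Pt23, phiQ c = p := by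
  obtain ⟨g, hg, rfl⟩ := (Set.ext_iff.1 orbit_965 p).2 h
  obtain ⟨w, hw, rfl⟩ := subX_word hg
  obtain ⟨v, hv, e⟩ := shift_word gen_zero_eq w hw
  refine ⟨Fi23Out.el v • Fi23Out.gpt 0, ?_⟩
  rw [← rho_el_phi hv, phiQ_gpt]
  exact congrArg (fun x => rho x pt965) e.symm

theorem phiQ_injective : Function.Injective phiQ := by
  have hsurj : Function.Surjective fun c : Pt23 => (⟨phiQ c, phiQ_inA c⟩ : {p : Fin nPts // InA p}) := by
    rintro ⟨p, hp⟩
    obtain ⟨c, rfl⟩ := exists_phiQ hp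
    exact ⟨c, rfl⟩
  have hcard : Nat.card Pt23 = Nat.card {p : Fin nPts // InA p} := by
    rw [Nat.card_fin]
    exact (show Fi23.ActF.act.n = 31671 by decide +kernel).trans card_InA.symm
  have hb := (Nat.bijective_iff_surjective_and_card _).2 ⟨hsurj, hcard⟩
  intro c d h
  exact hb.1 (Subtype.ext h)

theorem iota_trp (c : Pt23) : iota (Fi23Out.trp c) = zee * Fi24Class.trp (phiQ c) := by
  obtain ⟨u, hu⟩ : ∃ u : Gp23, u • Fi23Out.gpt 0 = c := by
    obtain ⟨u, hu⟩ := Fi23Out.trans_pt c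
    obtain ⟨w, hw⟩ := Fi23Out.trans_pt (Fi23Out.gpt 0)
    exact ⟨u * w⁻¹, by rw [← hw, ← mul_smul, inv_mul_cancel_right, hu]⟩
  have hbase : iota (Fi23Out.trp (Fi23Out.gpt 0)) = zee * gen 2 := by
    rw [← Fi23Out.letters_trp 0 (Nat.zero_le _)]
    have hl : Fi23Out.el [0] = Fi23Out.let' 0 := by simp [Fi23Out.el, ev, Fi23Out.let']
    have h2 : el (List.map (· + 2) [0]) = gen 2 := by simp [el, ev]
    rcases iota_word (v := [0]) (by decide) with e | e <;> rw [hl, h2] at e
    · have hm := (iota_mem (Fi23Out.let' 0)).2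
      rw [e] at hm
      exact absurd hm (gen_not_mem 2 (by norm_num))
    · rw [e, (commute_zero_subX (Fi24.gen_mem (x := 2) (by decide))).eq]
  have hg2 : Fi24Class.trp pt965 = gen 2 := by
    have h := trp_gpt 2
    rwa [show Fi24Class.gpt 2 = pt965 from Fin.ext rfl] at h
  have hz : iota u * zee * (iota u)⁻¹ = zee := by
    rw [(commute_zero_subX (iota_mem u).1).eq, mul_inv_cancel_right]
  rw [← hu, ← Fi23Out.conj_trp, map_mul, map_mul, map_inv, hbase, ← rho_iota, phiQ_gpt, trp_smul, hg2]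
  calc iota u * (zee * gen 2) * (iota u)⁻¹ = (iota u * zee * (iota u)⁻¹) * (iota u * gen 2 * (iota u)⁻¹) := by group
    _ = zee * (iota u * gen 2 * (iota u)⁻¹) := by rw [hz]

theorem trp_phiQ_fix (c d : Pt23) :
    rho (Fi24Class.trp (phiQ c)) (phiQ d) = phiQ d ↔ Fi23Out.trp c • d = d := by
  have e : rho (iota (Fi23Out.trp c)) (phiQ d) = phiQ (Fi23Out.trp c • d) := rho_iota _ _
  rw [iota_trp, Fi24Class.rho_mul] at e
  constructor
  · intro h
    rw [h, zee_fix] at e
    exact (phiQ_injective e).symm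
  · intro h
    rw [h] at e
    exact (rho zee).injective (e.trans (zee_fix d).symm)

end

end CfsgLib.Spor.Fi24Out
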