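/-
Words in the twelve letters and derivations of points, found by a computer search.
-/
import Mathlib.Tactic.Common

namespace CfsgLib.Spor.Fi24Out

/-- A word of order eleven in the ten letters of the smaller group. -/
def wordY23 : List ℕ := [9, 2, 8, 4, 6, 2, 9, 6, 3, 0, 7, 4, 6, 8, 2, 3, 4, 8, 1, 2, 3, 5, 2, 9, 1, 6]

/-- The same word in the twelve letters. -/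
def wordY : List ℕ := [11, 4, 10, 6, 8, 4, 11, 8, 5, 2, 9, 6, 8, 10, 4, 5, 6, 10, 3, 4, 5, 7, 4, 11, 3, 8]

/-- A word commuting with it and permuting its three fixed points in a cycle. -/
def wordA : List ℕ :=
  [1, 2, 3, 4, 5, 10, 11, 10, 5, 6, 4, 5, 10, 7, 6, 5, 4, 3, 2, 0, 1, 0, 1, 0, 2, 3, 4, 5, 6, 7, 10, 5,
    4, 6, 5, 10, 11, 10, 5, 4, 3, 2, 0, 1, 4, 3, 2, 1, 0, 1, 2, 3, 4, 0, 1, 2, 3, 4, 5, 10, 11, 6, 5, 10,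
    7, 6, 5, 3, 4, 2, 3, 1, 2, 0, 1, 0, 1, 0, 2, 1, 3, 2, 4, 3, 5, 6, 7, 10, 5, 6, 11, 10, 5, 4, 3, 2, 1,
    0, 5, 4, 2, 3, 1, 2, 0, 1, 0, 1, 0, 2, 1, 3, 2, 4, 5, 11, 10, 8, 7, 6, 4, 5, 3, 4, 2, 3, 1, 2, 0, 1,
    0, 1, 0, 2, 1, 3, 2, 4, 3, 5, 4, 6, 7, 8, 10, 11, 3, 1, 2, 0, 1, 0, 1, 0, 2, 1, 3, 11, 5, 10, 6, 7,
    5, 6, 4, 5, 10, 11, 8, 7, 6, 5, 10, 9, 8, 7, 6, 5, 4, 3, 1, 2, 0, 1, 0, 1, 0, 2, 1, 3, 4, 5, 6, 7, 8,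
    9, 10, 5, 6, 7, 8, 11, 10, 5, 4, 6, 5, 7, 6, 10, 5, 11, 3, 1, 2, 0, 1, 0, 1, 0, 2, 1, 3, 5, 4, 2, 3,
    1, 2, 0, 1, 0, 1, 0, 2, 1, 3, 2, 4, 5, 11, 10, 5, 6, 2, 3, 4, 5, 10, 11, 7, 6, 5, 10, 7, 8, 5, 6, 7,
    4, 5, 6, 3, 4, 5, 10, 11, 7, 4, 5, 6, 3, 4, 5, 10, 9, 8, 7, 6, 5, 4, 3, 1, 2, 0, 1, 0, 1, 0, 2, 1, 3,
    4, 5, 6, 7, 8, 9, 10, 5, 4, 3, 6, 5, 4, 7, 11, 10, 5, 4, 3, 6, 5, 4, 7, 6, 5, 8, 7, 10, 5, 6, 7, 11,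
    10, 5, 4, 3, 2, 6, 5, 10, 11, 8, 7, 6, 5, 4, 2, 3, 1, 2, 0, 1, 0, 1, 0, 2, 1, 3, 2, 4, 5, 6, 7, 8, 6,
    4, 5, 3, 4, 2, 3, 1, 2, 0, 1, 0, 1, 0, 2, 1, 3, 2, 4, 3, 5, 4, 6, 7, 3, 4, 5, 6, 2, 3, 4, 5, 10, 11,
    7, 6, 4, 5, 10, 6, 7, 8, 5, 6, 7, 4, 5, 6, 3, 4, 5, 10, 11, 8, 7, 4, 5, 6, 3, 4, 5, 10, 9, 8, 7, 6,
    5, 4, 3, 1, 2, 0, 1, 0, 1, 0, 2, 1, 3, 4, 5, 6, 7, 8, 9, 10, 5, 4, 3, 6, 5, 4, 7, 8, 11, 10, 5, 4, 3,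
    6, 5, 4, 7, 6, 5, 8, 7, 6, 10, 5, 4, 6, 7, 11, 10, 5, 4, 3, 2, 6, 5, 4, 3, 7, 3, 4, 2, 3, 1, 2, 0, 1,
    0, 1, 0, 2, 1, 3, 2, 4, 3, 11, 10, 9, 8, 7, 6, 4, 5, 3, 4, 2, 3, 1, 2, 0, 1, 0, 1, 0, 2, 1, 3, 2, 4,
    3, 5, 4, 6, 7, 8, 9, 10, 11, 4, 5, 6, 3, 4, 5, 10, 7, 8, 6, 7, 5, 6, 4, 5, 10, 9, 8, 7, 6, 5, 4, 2,
    3, 1, 2, 0, 1, 0, 1, 0, 2, 1, 3, 2, 4, 5, 6, 7, 8, 9, 10, 5, 4, 6, 5, 7, 6, 8, 7, 10, 5, 4, 3, 6, 3,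
    4, 2, 3, 1, 2, 0, 1, 0, 1, 0, 2, 1, 3, 2, 4, 3, 5, 4, 8, 7, 5, 6, 4, 5, 3, 4, 2, 3, 1, 2, 0, 1, 0, 1,
    0, 2, 1, 3, 2, 4, 3, 5, 4, 6, 5, 7, 8, 6, 5, 10, 4, 5, 6, 3, 4, 5, 10, 7, 8, 6, 7, 5, 6, 4, 5, 10, 9,
    8, 7, 6, 5, 4, 2, 3, 1, 2, 0, 1, 0, 1, 0, 2, 1, 3, 2, 4, 5, 6, 7, 8, 9, 10, 5, 4, 6, 5, 7, 6, 8, 7,
    10, 5, 4, 3, 6, 5, 4, 10, 5, 6]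

/-- A word of order twenty-three fixing the first point, normalised by the word of order eleven. -/
def wordS : List ℕ :=
  [5, 4, 3, 1, 2, 0, 1, 0, 1, 0, 2, 1, 3, 4, 5, 3, 1, 2, 0, 1, 0, 1, 0, 2, 1, 3, 7, 6, 5, 4, 3, 1, 2, 0,
    1, 0, 1, 0, 2, 1, 3, 4, 5, 4, 5, 10, 11, 8, 7, 5, 6, 1, 2, 3, 4, 5, 10, 9, 8, 7, 6, 5, 4, 3, 2, 1, 0,
    1, 2, 3, 4, 5, 6, 7, 8, 9, 10, 5, 4, 3, 2, 1, 6, 5, 7, 8, 11, 10, 5, 4, 6, 7, 1, 2, 0, 1, 0, 1, 0, 2,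
    1, 5, 10, 7, 6, 5, 3, 4, 2, 3, 1, 2, 0, 1, 0, 1, 0, 2, 1, 3, 2, 4, 3, 5, 6, 7, 10, 5, 10, 5, 3, 4, 2,
    3, 1, 2, 0, 1, 0, 1, 0, 2, 1, 3, 2, 4, 3, 5, 10, 6, 2, 3, 4, 5, 10, 11, 7, 6, 5, 10, 8, 9, 7, 8, 6,
    7, 4, 5, 6, 3, 4, 5, 10, 11, 6, 7, 5, 6, 3, 4, 5, 10, 9, 8, 7, 6, 5, 4, 3, 1, 2, 0, 1, 0, 1, 0, 2, 1,
    3, 4, 5, 6, 7, 8, 9, 10, 5, 4, 3, 6, 5, 7, 6, 11, 10, 5, 4, 3, 6, 5, 4, 7, 6, 8, 7, 9, 8, 10, 5, 6,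
    7, 11, 10, 5, 4, 3, 2, 6, 10, 9, 8, 7, 6, 5, 3, 4, 2, 3, 1, 2, 0, 1, 0, 1, 0, 2, 1, 3, 2, 4, 3, 5, 6,
    7, 8, 9, 10, 3, 4, 5, 6, 2, 3, 4, 5, 10, 11, 5, 6, 4, 5, 10, 7, 8, 5, 6, 7, 4, 5, 6, 2, 3, 4, 5, 10,
    11, 8, 7, 4, 5, 6, 3, 4, 5, 10, 9, 8, 7, 6, 5, 4, 3, 1, 2, 0, 1, 0, 1, 0, 2, 1, 3, 4, 5, 6, 7, 8, 9,
    10, 5, 4, 3, 6, 5, 4, 7, 8, 11, 10, 5, 4, 3, 2, 6, 5, 4, 7, 6, 5, 8, 7, 10, 5, 4, 6, 5, 11, 10, 5, 4,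
    3, 2, 6, 5, 4, 3, 10, 6, 5, 3, 4, 2, 3, 1, 2, 0, 1, 0, 1, 0, 2, 1, 3, 2, 4, 3, 5, 6, 10, 9, 8, 7, 6,
    5, 10, 4, 5, 6, 3, 4, 5, 10, 7, 8, 6, 7, 5, 6, 4, 5, 10, 9, 8, 7, 6, 5, 4, 2, 3, 1, 2, 0, 1, 0, 1, 0,
    2, 1, 3, 2, 4, 5, 6, 7, 8, 9, 10, 5, 4, 6, 5, 7, 6, 8, 7, 10, 5, 4, 3, 6, 5, 4, 10, 5, 6, 7, 8, 9,
    11, 10, 9, 8, 7, 6, 4, 5, 3, 4, 2, 3, 1, 2, 0, 1, 0, 1, 0, 2, 1, 3, 2, 4, 3, 5, 4, 6, 7, 8, 9, 10,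
    11, 7, 6, 4, 5, 3, 4, 2, 3, 1, 2, 0, 1, 0, 1, 0, 2, 1, 3, 2, 4, 3, 5, 4, 6, 7, 11, 5, 10, 4, 5, 3, 4,
    2, 3, 1, 2, 0, 1, 0, 1, 0, 2, 1, 3, 2, 4, 3, 5, 4, 10, 5, 11, 7, 5, 6, 4, 5, 3, 4, 2, 3, 1, 2, 0, 1,
    0, 1, 0, 2, 1, 3, 2, 4, 3, 5, 4, 6, 5, 7, 8, 6, 7, 5, 6, 4, 5, 3, 4, 2, 3, 1, 2, 0, 1, 0, 1, 0, 2, 1,
    3, 2, 4, 3, 5, 4, 6, 5, 7, 6, 8, 7, 8, 6, 7, 5, 6, 4, 5, 3, 4, 2, 3, 1, 2, 0, 1, 0, 1, 0, 2, 1, 3, 2,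
    4, 3, 5, 4, 6, 5, 7, 6, 8, 7, 8, 7, 6, 5, 10, 4, 5, 6, 3, 4, 5, 10, 7, 8, 6, 7, 5, 6, 4, 5, 10, 9, 8,
    7, 6, 5, 4, 2, 3, 1, 2, 0, 1, 0, 1, 0, 2, 1, 3, 2, 4, 5, 6, 7, 8, 9, 10, 5, 4, 6, 5, 7, 6, 8, 7, 10,
    5, 4, 3, 6, 5, 4, 10, 5, 6, 7, 8, 10, 11, 5, 10, 4, 5, 3, 4, 2, 3, 1, 2, 0, 1, 0, 1, 0, 2, 1, 3, 2,
    4, 3, 5, 4, 10, 5, 11, 10]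

/-- Derivations: a word taking the first point to a known point, and a known point to be moved. -/
def rowsK : List (List ℕ × ℕ) := [
    ([11, 10, 4, 5, 3, 4, 2, 3, 1, 2, 0, 1], 96873),
    ([6, 5, 10, 7, 4, 5, 6, 3, 4, 5, 10, 11, 7, 6, 3, 4, 5, 10, 9, 8, 7, 6, 5, 4, 3, 1, 2, 0, 1], 95629),
    ([6, 5, 10, 7, 4, 5, 6, 3, 4, 5, 10, 11, 7, 6, 3, 4, 5, 10, 9, 8, 7, 6, 5, 4, 3, 1, 2, 0, 1], 86938),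
    ([6, 5, 10, 7, 4, 5, 6, 3, 4, 5, 10, 11, 7, 6, 3, 4, 5, 10, 9, 8, 7, 6, 5, 4, 3, 1, 2, 0, 1], 11379),
    ([8, 7, 6, 4, 5, 10, 11, 6, 3, 4, 5, 10, 6, 7, 8, 5, 6, 7, 4, 5, 6, 3, 4, 5, 10, 11, 8, 7, 4, 5, 6, 3, 4, 5, 10, 9, 8, 7, 6, 5, 4, 3, 1, 2, 0, 1], 306554),
    ([2, 3, 4, 5, 10, 8, 9, 7, 8, 6, 7, 5, 6, 4, 5, 10, 11, 8, 6, 7, 5, 6, 3, 4, 5, 10, 9, 8, 7, 6, 5, 4, 3, 1, 2, 0, 1], 88204),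
    ([5, 10, 11, 7, 6, 3, 4, 5, 10, 7, 8, 6, 7, 4, 5, 6, 3, 4, 5, 10, 11, 7, 5, 6, 3, 4, 5, 10, 9, 8, 7, 6, 5, 4, 3, 1, 2, 0, 1], 88204),
    ([5, 10, 11, 7, 6, 3, 4, 5, 10, 7, 8, 6, 7, 4, 5, 6, 3, 4, 5, 10, 11, 7, 5, 6, 3, 4, 5, 10, 9, 8, 7, 6, 5, 4, 3, 1, 2, 0, 1], 98250),
    ([4, 5, 10, 6, 7, 4, 5, 6, 3, 4, 5, 10, 11, 10, 6, 7, 5, 6, 3, 4, 5, 10, 8, 7, 6, 5, 4, 3, 1, 2, 0, 1], 96873),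
    ([4, 5, 10, 11, 6, 5, 10, 7, 8, 5, 6, 7, 4, 5, 6, 3, 4, 5, 10, 11, 8, 6, 7, 5, 6, 1, 2, 3, 4, 5, 10, 9, 8, 7, 6, 5, 4, 3, 2, 1], 94396),
    ([2, 3, 4, 5, 10, 11, 6, 4, 5, 10, 7, 8, 6, 7, 4, 5, 6, 2, 3, 4, 5, 10, 11, 8, 7, 5, 6, 3, 4, 5, 10, 9, 8, 7, 6, 5, 4, 3, 1, 2, 0, 1], 98250),
    ([11, 5, 10, 6, 7, 5, 6, 4, 5, 10, 11, 4, 5, 6, 3, 4, 5, 10, 9, 8, 7, 6, 5, 4, 3, 1, 2, 0, 1], 13251),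
    ([11, 5, 10, 6, 7, 5, 6, 4, 5, 10, 11, 4, 5, 6, 3, 4, 5, 10, 9, 8, 7, 6, 5, 4, 3, 1, 2, 0, 1], 98250),
    ([11, 5, 10, 4, 5, 6, 2, 3, 4, 5, 10, 11, 6, 7, 5, 6, 3, 4, 5, 10, 8, 7, 6, 5, 4, 3, 1, 2, 0, 1], 98250),
    ([6, 5, 10, 11, 4, 5, 10, 6, 7, 5, 6, 4, 5, 10, 11, 8, 7, 6, 3, 4, 5, 10, 9, 8, 7, 6, 5, 4, 3, 1, 2, 0, 1], 88408),
    ([6, 5, 10, 11, 4, 5, 10, 6, 7, 5, 6, 4, 5, 10, 11, 8, 7, 6, 3, 4, 5, 10, 9, 8, 7, 6, 5, 4, 3, 1, 2, 0, 1], 82688),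
    ([11, 5, 10, 7, 4, 5, 6, 2, 3, 4, 5, 10, 11, 7, 5, 6, 1, 2, 3, 4, 5, 10, 8, 7, 6, 5, 4, 3, 2, 1], 82688),
    ([4, 5, 6, 2, 3, 4, 5, 10, 11, 5, 6, 4, 5, 10, 6, 7, 8, 5, 6, 7, 4, 5, 6, 3, 4, 5, 10, 11, 8, 7, 5, 6, 3, 4, 5, 10, 9, 8, 7, 6, 5, 4, 3, 1, 2, 0, 1], 98250),
    ([3, 4, 5, 10, 11, 5, 6, 4, 5, 10, 7, 8, 6, 7, 4, 5, 6, 3, 4, 5, 10, 11, 8, 7, 5, 6, 3, 4, 5, 10, 9, 8, 7, 6, 5, 4, 3, 1, 2, 0, 1], 303294),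
    ([7, 5, 6, 4, 5, 10, 7, 8, 5, 6, 7, 4, 5, 6, 3, 4, 5, 10, 11, 8, 7, 5, 6, 3, 4, 5, 10, 9, 8, 7, 6, 5, 4, 3, 1, 2, 0, 1], 97175),
    ([5, 10, 11, 7, 6, 4, 5, 10, 7, 8, 6, 7, 4, 5, 6, 3, 4, 5, 10, 11, 8, 7, 5, 6, 3, 4, 5, 10, 9, 8, 7, 6, 5, 4, 3, 1, 2, 0, 1], 97540),
    ([10, 11, 5, 6, 3, 4, 5, 10, 7, 8, 6, 7, 5, 6, 3, 4, 5, 10, 11, 7, 6, 3, 4, 5, 10, 9, 8, 7, 6, 5, 4, 3, 1, 2, 0, 1], 87762),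
    ([10, 11, 4, 5, 10, 6, 7, 4, 5, 6, 3, 4, 5, 10, 11, 6, 7, 5, 6, 1, 2, 3, 4, 5, 10, 9, 8, 7, 6, 5, 4, 3, 2, 1], 10921),
    ([10, 11, 3, 4, 5, 10, 6, 7, 5, 6, 3, 4, 5, 10, 11, 10, 6, 7, 5, 6, 3, 4, 5, 10, 9, 8, 7, 6, 5, 4, 3, 1, 2, 0, 1], 94142),
    ([4, 5, 10, 11, 10, 5, 6, 3, 4, 5, 10, 7, 8, 6, 7, 4, 5, 6, 3, 4, 5, 10, 11, 8, 7, 5, 6, 3, 4, 5, 10, 9, 8, 7, 6, 5, 4, 3, 1, 2, 0, 1], 97672),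
    ([10, 7, 4, 5, 6, 2, 3, 4, 5, 10, 11, 5, 6, 7, 4, 5, 6, 3, 4, 5, 10, 9, 8, 7, 6, 5, 4, 3, 1, 2, 0, 1], 85198),
    ([5, 10, 8, 5, 6, 7, 3, 4, 5, 6, 2, 3, 4, 5, 10, 11, 8, 7, 5, 6, 1, 2, 3, 4, 5, 10, 9, 8, 7, 6, 5, 4, 3, 2, 1], 82204),
    ([6, 5, 10, 7, 8, 6, 7, 5, 6, 4, 5, 10, 11, 7, 5, 6, 3, 4, 5, 10, 9, 8, 7, 6, 5, 4, 3, 1, 2, 0, 1], 11577),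
    ([11, 10, 4, 5, 3, 4, 2, 3, 1, 2, 0, 1], 3852),
    ([6, 5, 10, 7, 4, 5, 6, 3, 4, 5, 10, 11, 7, 6, 3, 4, 5, 10, 9, 8, 7, 6, 5, 4, 3, 1, 2, 0, 1], 82972),
    ([6, 5, 10, 7, 4, 5, 6, 3, 4, 5, 10, 11, 7, 6, 3, 4, 5, 10, 9, 8, 7, 6, 5, 4, 3, 1, 2, 0, 1], 83133),
    ([6, 5, 10, 7, 4, 5, 6, 3, 4, 5, 10, 11, 7, 6, 3, 4, 5, 10, 9, 8, 7, 6, 5, 4, 3, 1, 2, 0, 1], 82974),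
    ([8, 7, 6, 4, 5, 10, 11, 6, 3, 4, 5, 10, 6, 7, 8, 5, 6, 7, 4, 5, 6, 3, 4, 5, 10, 11, 8, 7, 4, 5, 6, 3, 4, 5, 10, 9, 8, 7, 6, 5, 4, 3, 1, 2, 0, 1], 304347)]

end CfsgLib.Spor.Fi24Out
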