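/-
The words and what they generate.
-/
import Cfsg.Agent.Lib.Spor.Fi24Out.Bridge
import Cfsg.Agent.Lib.Spor.Fi24Out.Data

set_option autoImplicit false
set_option maxRecDepth 100000

namespace CfsgLib.Spor.Fi24Out

open CfsgLib.Spor.TC CfsgLib.Spor.Fi24 CfsgLib.Spor.Fi24Class

noncomputable section

/-- A word acting several times. -/
def walkPow (w : List ℕ) (m c : ℕ) : ℕ :=
  Nat.rec (motive := fun _ => ℕ) c (fun _ ih => strict ih (walk w)) m

/-- The points reached from listed ones. -/
def deriveRec (rs : List (List ℕ × ℕ)) : List ℕ → Bool :=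
  List.rec (motive := fun _ => List ℕ → Bool)
    (fun acc => allList (fun x => memNat (gpts.getD x 0) acc) [2, 3, 4, 5, 6, 7, 8, 9, 10, 11])
    (fun row _ ih acc =>
      allBelow 12 row.1 && memNat (walk row.1 0) acc && memNat row.2 acc &&
        ih (walk (row.1 ++ 0 :: row.1.reverse) row.2 :: acc))
    rs

/-- The first list. -/
def startList : List ℕ := (List.range 23).map fun i => walkPow wordS i 3909

theorem words_lt : (∀ x ∈ wordS, x < 12) ∧ (∀ x ∈ wordY, x < 12) ∧ (∀ x ∈ wordA, x < 12) := by decide +kernel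

theorem words_even : wordS.length = 2 * 365 ∧ wordY.length = 2 * 13 ∧ wordA.length = 2 * 348 := by decide +kernel

theorem word_values : wordY = wordY23.map (· + 2) ∧ walk wordS 0 = 0 ∧ walk wordY 0 = 0 ∧
    walk wordY 3909 = 3909 ∧ walk wordY 3963 = 3963 ∧
    walk wordA 0 = 3909 ∧ walk wordA 3909 = 3963 ∧ walk wordA 3963 = 0 ∧
    phi 5286 = 3909 ∧ phi 2 = 3963 ∧ walk wordA (walk [7, 6] 3909) = 241307 ∧ T 5 1 = 1 ∧
    walk wordS 3909 ≠ 3909 ∧ walk wordY 1 ≠ 1 := by decide +kernel

theorem words_gpts : (gpts.all fun c => Nat.beq (walkPow wordS 23 c) c && Nat.beq (walkPow wordY 11 c) c &&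
    Nat.beq (walk wordY (walk wordS c)) (walk wordS (walk wordS (walk wordY c))) &&
    Nat.beq (walk wordA (walk wordY c)) (walk wordY (walk wordA c))) = true := by decide +kernel

theorem derive_ok : deriveRec rowsK startList = true := by decide +kernel

theorem el_val {w : List ℕ} (hw : ∀ x ∈ w, x < 12) (p : Fin nPts) : (rho (el w) p : ℕ) = walk w p := by
  rw [rho_el, ev_val all_points hw]

theorem el_pow_val {w : List ℕ} (hw : ∀ x ∈ w, x < 12) (m : ℕ) (p : Fin nPts) :
    (rho (el w ^ m) p : ℕ) = walkPow w m p := by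
  induction m with
  | zero => rw [pow_zero, map_one]; rfl
  | succ m ih =>
    rw [pow_succ', Fi24Class.rho_mul, el_val hw, ih]
    exact (strict_eq _ _).symm

theorem el_append' (u v : List ℕ) : el (u ++ v) = el u * el v := by unfold el; rw [ev_append]

theorem el_mem_M : ∀ (n : ℕ) (w : List ℕ), w.length = 2 * n → (∀ a ∈ w, a < 12) → el w ∈ M₀ := by
  intro n
  induction n with
  | zero =>
    intro w hw _
    rw [List.length_eq_zero_iff.1 hw]
    exact one_mem _
  | succ n ih =>
    intro w hw hlt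
    match w, hw with
    | a :: b :: w, hw =>
      rw [el, show a :: b :: w = [a, b] ++ w from rfl, ev_append,
        show ev (presGen 12 relsX) [a, b] = presGen 12 relsX a * presGen 12 relsX b by simp [ev]]
      refine mul_mem (mul_gen_mem (hlt a (by simp)) (hlt b (by simp)))
        (ih w (by simp only [List.length_cons] at hw; omega) fun c hc => hlt c (by simp [hc]))
    | [a], hw => simp only [List.length_cons, List.length_nil] at hw; omega
    | [], hw => simp only [List.length_nil] at hw; omega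

/-- The element of order twenty-three. -/
def eS : X₀ := el wordS

/-- The element of order eleven. -/
def eY : X₀ := el wordY

/-- The element permuting the fixed points. -/
def eA : X₀ := el wordA

/-- The second fixed point of the element of order eleven. -/
def ptE : Fin nPts := ⟨3909, by decide⟩

/-- The third fixed point. -/
def ptF : Fin nPts := ⟨3963, by decide⟩

theorem eq_of_gpts {u v : X₀} (h : ∀ x : Fin 12, rho u (Fi24Class.gpt x) = rho v (Fi24Class.gpt x)) : u = v := by
  refine inv_mul_eq_one.1 (eq_one_of_fix fun x => ?_) |>.symm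
  rw [Fi24Class.rho_mul, h x, rho_inv_apply]

theorem gpt_mem (x : Fin 12) : ((Fi24Class.gpt x : Fin nPts) : ℕ) ∈ gpts := by
  show gpts.getD x 0 ∈ gpts
  rw [List.getD_eq_getElem _ _ (show (x : ℕ) < gpts.length from x.2)]
  exact List.getElem_mem _

theorem gpts_test (x : Fin 12) :
    rho (eS ^ 23) (Fi24Class.gpt x) = Fi24Class.gpt x ∧ rho (eY ^ 11) (Fi24Class.gpt x) = Fi24Class.gpt x ∧
      rho (eY * eS) (Fi24Class.gpt x) = rho (eS * (eS * eY)) (Fi24Class.gpt x) ∧
      rho (eA * eY) (Fi24Class.gpt x) = rho (eY * eA) (Fi24Class.gpt x) := by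
  obtain ⟨hS, hY, hA⟩ := words_lt
  have h := List.all_eq_true.1 words_gpts _ (gpt_mem x)
  simp only [Bool.and_eq_true] at h
  obtain ⟨⟨⟨h1, h2⟩, h3⟩, h4⟩ := h
  refine ⟨Fin.ext ?_, Fin.ext ?_, Fin.ext ?_, Fin.ext ?_⟩
  · rw [eS, el_pow_val hS]; exact Nat.eq_of_beq_eq_true h1
  · rw [eY, el_pow_val hY]; exact Nat.eq_of_beq_eq_true h2
  · simp only [eS, eY, Fi24Class.rho_mul, el_val hS, el_val hY]; exact Nat.eq_of_beq_eq_true h3
  · simp only [eA, eY, Fi24Class.rho_mul, el_val hA, el_val hY]; exact Nat.eq_of_beq_eq_true h4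

theorem eS_pow : eS ^ 23 = 1 := eq_one_of_fix fun x => (gpts_test x).1

theorem eY_pow : eY ^ 11 = 1 := eq_one_of_fix fun x => (gpts_test x).2.1

theorem eY_eS : eY * eS = eS ^ 2 * eY := by
  rw [pow_two, mul_assoc]; exact eq_of_gpts fun x => (gpts_test x).2.2.1

theorem eA_eY : Commute eA eY := eq_of_gpts fun x => (gpts_test x).2.2.2

theorem order_eS : orderOf eS = 23 := by
  haveI : Fact (Nat.Prime 23) := ⟨by norm_num⟩
  refine orderOf_eq_prime eS_pow fun h => word_values.2.2.2.2.2.2.2.2.2.2.2.2.1 ?_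
  rw [show (3909 : ℕ) = ((ptE : Fin nPts) : ℕ) from rfl, ← el_val words_lt.1, show el wordS = eS from rfl, h, map_one]
  rfl

theorem order_eY : orderOf eY = 11 := by
  haveI : Fact (Nat.Prime 11) := ⟨by norm_num⟩
  refine orderOf_eq_prime eY_pow fun h => word_values.2.2.2.2.2.2.2.2.2.2.2.2.2 ?_
  rw [show (1 : ℕ) = ((pt1 : Fin nPts) : ℕ) from rfl, ← el_val words_lt.2.1, show el wordY = eY from rfl, h, map_one]
  rfl

theorem eS_K : eS ∈ K₀ :=
  ⟨mem_subX.2 (Fin.ext ((el_val words_lt.1 pt0).trans word_values.2.1)),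
    el_mem_M _ _ words_even.1 words_lt.1⟩

theorem eY_K : eY ∈ K₀ :=
  ⟨mem_subX.2 (Fin.ext ((el_val words_lt.2.1 pt0).trans word_values.2.2.1)),
    el_mem_M _ _ words_even.2.1 words_lt.2.1⟩

theorem eA_M : eA ∈ M₀ := el_mem_M _ _ words_even.2.2 words_lt.2.2

theorem eY_pts : rho eY pt0 = pt0 ∧ rho eY ptE = ptE ∧ rho eY ptF = ptF :=
  ⟨Fin.ext ((el_val words_lt.2.1 _).trans word_values.2.2.1),
    Fin.ext ((el_val words_lt.2.1 _).trans word_values.2.2.2.1),
    Fin.ext ((el_val words_lt.2.1 _).trans word_values.2.2.2.2.1)⟩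

theorem eA_pts : rho eA pt0 = ptE ∧ rho eA ptE = ptF ∧ rho eA ptF = pt0 :=
  ⟨Fin.ext ((el_val words_lt.2.2 _).trans word_values.2.2.2.2.2.1),
    Fin.ext ((el_val words_lt.2.2 _).trans word_values.2.2.2.2.2.2.1),
    Fin.ext ((el_val words_lt.2.2 _).trans word_values.2.2.2.2.2.2.2.1)⟩

theorem inA_ptE : InA ptE := by simp only [InA, ptE]; omega

theorem inA_ptF : InA ptF := by simp only [InA, ptF]; omega

theorem commute_zee_trp {p : Fin nPts} (h : InA p) : Commute zee (Fi24Class.trp p) := by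
  rw [← trp_pt0, Fi24Class.commute_trp_iff, trp_pt0, rho_zee]
  exact ((inA_iff p).1 h).2

/-- The product of the first transposition and another. -/
def uu (p : Fin nPts) : X₀ := zee * Fi24Class.trp p

theorem trp_not_mem (p : Fin nPts) : Fi24Class.trp p ∉ M₀ := fun h => zee_not_mem (by
  have := (inferInstance : M₀.Normal).conj_mem _ h (rep p)⁻¹
  rwa [show (rep p)⁻¹ * Fi24Class.trp p * (rep p)⁻¹⁻¹ = zee by unfold Fi24Class.trp; group] at this)

theorem uu_M (p : Fin nPts) : uu p ∈ M₀ :=
  (Subgroup.mul_mem_iff_of_index_two index_M).2 (iff_of_false zee_not_mem (trp_not_mem p))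

theorem rho_zee_pt0 : rho zee pt0 = pt0 := mem_subX.1 (Fi24.gen_mem (x := 0) (by decide))

theorem uu_fix0 {p : Fin nPts} (h : InA p) : rho (uu p) pt0 = pt0 := by
  have e : rho (Fi24Class.trp p) pt0 = pt0 := by
    rw [← Fi24Class.commute_trp_iff, trp_pt0]; exact (commute_zee_trp h).symm
  rw [uu, Fi24Class.rho_mul, e, rho_zee_pt0]

theorem uu_K {p : Fin nPts} (h : InA p) : uu p ∈ K₀ := ⟨mem_subX.2 (uu_fix0 h), uu_M p⟩

theorem conj_uu {g : X₀} (hg : g ∈ subX) (p : Fin nPts) : g * uu p * g⁻¹ = uu (rho g p) := by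
  have hz : g * zee * g⁻¹ = zee := by rw [(commute_zero_subX hg).eq, mul_inv_cancel_right]
  rw [uu, uu, trp_smul]
  calc g * (zee * Fi24Class.trp p) * g⁻¹ = (g * zee * g⁻¹) * (g * Fi24Class.trp p * g⁻¹) := by group
    _ = _ := by rw [hz]

theorem inA_rho {g : X₀} (hg : g ∈ subX) {p : Fin nPts} (h : InA p) : InA (rho g p) := by
  refine (inA_iff _).2 ⟨fun e => ((inA_iff p).1 h).1 ?_, (fixed_zero_iff hg p).2 ((inA_iff p).1 h).2⟩
  exact (rho g).injective (e.trans (mem_subX.1 hg).symm)

theorem deriveRec_spec {H : Subgroup X₀} : ∀ (rs : List (List ℕ × ℕ)) (acc : List ℕ), deriveRec rs acc = true →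
    (∀ k ∈ acc, k < nPts) →
    (∀ k ∈ acc, ∀ p : Fin nPts, (p : ℕ) = k → InA p ∧ uu p ∈ H) →
      ∀ x : Fin 12, 2 ≤ (x : ℕ) → uu (Fi24Class.gpt x) ∈ H := by
  intro rs
  induction rs with
  | nil =>
    intro acc h hacclt hacc x hx
    change allList (fun x => memNat (gpts.getD x 0) acc) [2, 3, 4, 5, 6, 7, 8, 9, 10, 11] = true at h
    have hm : (x : ℕ) ∈ [2, 3, 4, 5, 6, 7, 8, 9, 10, 11] := by
      have h12 := x.2
      simp only [List.mem_cons, List.not_mem_nil, or_false]
      omega
    exact (hacc _ (memNat_spec (allList_spec h _ hm)) _ rfl).2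
  | cons row rs ih =>
    intro acc h hacclt hacc
    change (allBelow 12 row.1 && memNat (walk row.1 0) acc && memNat row.2 acc &&
      deriveRec rs (walk (row.1 ++ 0 :: row.1.reverse) row.2 :: acc)) = true at h
    simp only [Bool.and_eq_true] at h
    obtain ⟨⟨⟨hb, hk⟩, hr⟩, hrest⟩ := h
    have hu := allBelow_spec hb
    refine ih _ hrest (fun k hk' => ?_) fun k hk' p hp => ?_
    · rcases List.mem_cons.1 hk' with rfl | hk'
      · have hall : ∀ y ∈ row.1 ++ 0 :: row.1.reverse, y < 12 := by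
          intro y hy
          rcases List.mem_append.1 hy with h | h
          · exact hu y h
          · rcases List.mem_cons.1 h with rfl | h
            · norm_num
            · exact hu y (List.mem_reverse.1 h)
        have e := el_val hall ⟨row.2, hacclt _ (memNat_spec hr)⟩
        exact e ▸ (rho _ _).2
      · exact hacclt k hk'
    rcases List.mem_cons.1 hk' with rfl | hk'
    swap
    · exact hacc k hk' p hp
    have hall : ∀ y ∈ row.1 ++ 0 :: row.1.reverse, y < 12 := by
      intro y hy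
      rcases List.mem_append.1 hy with h | h
      · exact hu y h
      · rcases List.mem_cons.1 h with rfl | h
        · norm_num
        · exact hu y (List.mem_reverse.1 h)
    obtain ⟨a, ea⟩ : ∃ a : Fin nPts, a = rho (el row.1) pt0 := ⟨_, rfl⟩
    obtain ⟨haA, haH⟩ := hacc _ (memNat_spec hk) a (by rw [ea]; exact el_val hu pt0)
    have hd : Fi24Class.trp a = el (row.1 ++ 0 :: row.1.reverse) := by
      rw [Fi24Class.trp_eq ea.symm, el_append', show el (0 :: row.1.reverse) = zee * el row.1.reverse by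
        unfold el; rw [ev_cons], el_reverse, mul_assoc]
    obtain ⟨b, hbeq⟩ : ∃ b : Fin nPts, b = rho (Fi24Class.trp a)⁻¹ p := ⟨_, rfl⟩
    have hab : rho (Fi24Class.trp a) b = p := by
      rw [hbeq, ← Fi24Class.rho_mul, mul_inv_cancel, map_one]; rfl
    have hmem := memNat_spec hr
    obtain ⟨hbA, hbH⟩ : InA b ∧ uu b ∈ H := by
      have hlt : row.2 < nPts := hacclt _ hmem
      have e : b = ⟨row.2, hlt⟩ := by
        refine (rho (Fi24Class.trp a)).injective (hab.trans (Fin.ext ?_))
        rw [hd, el_val hall]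
        exact hp
      exact hacc _ hmem b (by rw [e])
    have hz : Commute (Fi24Class.trp a) zee := (commute_zee_trp haA).symm
    have ha0 : rho (Fi24Class.trp a) pt0 = pt0 := by
      rw [← Fi24Class.commute_trp_iff, trp_pt0]; exact hz
    have hsub : Fi24Class.trp a ∈ subX := mem_subX.2 ha0
    refine ⟨hab ▸ inA_rho hsub hbA, ?_⟩
    rw [← hab, ← conj_uu hsub,
      show Fi24Class.trp a * uu b * (Fi24Class.trp a)⁻¹ = uu a * uu b * (uu a)⁻¹ by
        have hzb : zee * uu b * zee⁻¹ = uu b := by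
          unfold uu
          rw [← mul_assoc, Fi24Class.sq_gen, one_mul, gen_inv, (commute_zee_trp hbA).eq]
        calc _ = Fi24Class.trp a * (zee * uu b * zee⁻¹) * (Fi24Class.trp a)⁻¹ := by rw [hzb]
          _ = (Fi24Class.trp a * zee) * uu b * (Fi24Class.trp a * zee)⁻¹ := by group
          _ = _ := by rw [hz.eq]; rfl]
    exact H.mul_mem (H.mul_mem haH hbH) (H.inv_mem haH)

/-- The subgroup generated by the element of order twenty-three and one product. -/
def genH : Subgroup X₀ := Subgroup.closure {eS, uu ptE}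

theorem uu_gpt_mem (x : Fin 12) (hx : 2 ≤ (x : ℕ)) : uu (Fi24Class.gpt x) ∈ genH := by
  refine deriveRec_spec rowsK startList derive_ok (fun k hk => ?_) (fun k hk p hp => ?_) x hx
  · obtain ⟨i, -, rfl⟩ := List.mem_map.1 hk
    exact el_pow_val words_lt.1 i ptE ▸ (rho _ _).2
  obtain ⟨i, -, rfl⟩ := List.mem_map.1 hk
  have e : p = rho (eS ^ i) ptE := Fin.ext (by rw [hp, eS, el_pow_val words_lt.1]; rfl)
  have hs : eS ^ i ∈ subX := Subgroup.pow_mem _ eS_K.1 i
  subst e
  refine ⟨inA_rho hs inA_ptE, ?_⟩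
  rw [← conj_uu hs]
  have h1 : eS ^ i ∈ genH := Subgroup.pow_mem _ (Subgroup.subset_closure (Set.mem_insert _ _)) i
  exact genH.mul_mem (genH.mul_mem h1 (Subgroup.subset_closure (Set.mem_insert_of_mem _ rfl))) (genH.inv_mem h1)

theorem genH_le : genH ≤ K₀ := by
  rw [genH, Subgroup.closure_le]
  rintro x (rfl | rfl)
  · exact eS_K
  · exact uu_K inA_ptE

theorem genH_eq : genH = K₀ := by
  refine le_antisymm genH_le fun g hg => ?_
  obtain ⟨w, hw, rfl⟩ := subX_word hg.1
  have hx : ∀ x ∈ embH, zee * gen x ∈ genH := by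
    intro x hx
    by_cases h0 : x = 0
    · subst h0
      rw [Fi24Class.sq_gen]
      exact genH.one_mem
    have hlt := embH_lt x hx
    have h2 : 2 ≤ x := (show ∀ z ∈ embH, z ≠ 0 → 2 ≤ z by decide) x hx h0
    have := uu_gpt_mem ⟨x, hlt⟩ h2
    rwa [uu, trp_gpt] at this
  have key : ∀ w : List ℕ, (∀ x ∈ w, x ∈ embH) → el w ∈ genH ∨ zee * el w ∈ genH := by
    intro w
    induction w with
    | nil => exact fun _ => Or.inl genH.one_mem
    | cons a w ih =>
      intro hw
      have ha := hw a List.mem_cons_self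
      have e : el (a :: w) = gen a * el w := by unfold el; rw [ev_cons]
      have hc : zee * gen a = gen a * zee := (commute_zero_subX (Fi24.gen_mem ha)).eq.symm
      rcases ih fun x hx => hw x (List.mem_cons_of_mem _ hx) with h | h
      · exact Or.inr (by rw [e, ← mul_assoc]; exact genH.mul_mem (hx a ha) h)
      · refine Or.inl ?_
        have h2 := genH.mul_mem (hx a ha) h
        rwa [hc, mul_assoc, ← mul_assoc zee zee, Fi24Class.sq_gen, one_mul, ← e] at h2
  refine (key w hw).resolve_right fun h => zee_not_mem ?_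
  have h1 : zee * el w ∈ M₀ := (genH_le h).2
  have h2 := M₀.mul_mem h1 (M₀.inv_mem hg.2)
  rwa [mul_inv_cancel_right] at h2

end

end CfsgLib.Spor.Fi24Out
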