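/-
The tests of one point for the element of order eleven.
-/
import Cfsg.Agent.Lib.Spor.Fi23Out.Thirteen
import Cfsg.Agent.Lib.Spor.Fi24Out.Data
import Cfsg.Agent.Lib.Spor.TC.StrictLevels

set_option autoImplicit false
set_option maxRecDepth 100000

namespace CfsgLib.Spor.Fi24Out

open CfsgLib.Spor.TC CfsgLib.Spor.Fi23 CfsgLib.Spor.Fi23Out MulAction

noncomputable section

attribute [local instance] actionF

/-- The element of order eleven. -/
def yy : Gp := el wordY23

theorem wordY23_below : ∀ x ∈ wordY23, x < 10 := by decide

theorem yy_smul (c : Pt) : ((yy • c : Pt) : ℕ) = ActF.act.wact wordY23 c := el_smul (below_K wordY23_below) c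

theorem yy_pow_smul (m : ℕ) (c : Pt) : ((yy ^ m • c : Pt) : ℕ) = ActF.act.wpow wordY23 m c := by
  induction m with
  | zero => rw [pow_zero, one_smul]; rfl
  | succ m ih =>
    rw [pow_succ', mul_smul, yy_smul, ih]
    rfl

/-- The first fixed point, as a number. -/
def eN : ℕ := 5286

/-- The second fixed point, as a number. -/
def fN : ℕ := 2

/-- The orbit with the first pattern. -/
def cFive : List ℕ := [236, 455, 508, 719, 734, 2231, 3186, 5716, 6545, 6669, 6757]

/-- The orbit with the second pattern. -/
def cSix : List ℕ := [63, 253, 757, 2443, 2682, 3652, 4323, 4422, 5354, 7310, 18000]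

/-- Points separating the second orbit. -/
def sepFive : List ℕ := [236, 455, 508, 719, 734, 2231, 3186, 5716]

/-- Points cutting out the triple. -/
def cutTri : List ℕ := [2682, 5354, 4323, 18000]

/-- The triple. -/
def tri : List ℕ := [835, 5725, 22286]

/-- Words to known points and known points to be moved, by which new fixed points are derived. -/
def newRows : List (List ℕ × ℕ × ℕ) := [
  ([0, 1, 2, 3, 8, 9, 5, 4, 3, 8, 2, 3, 4, 5, 6, 7], 835, 4134),
  ([0, 1, 2, 3, 8, 9, 5, 4, 3, 8, 2, 3, 4, 5, 6, 7], 5725, 4152),
  ([2, 3, 8, 9, 5, 2, 3, 4, 1, 2, 3, 8, 0, 1, 2, 3, 4, 5, 6, 7], 22286, 4099),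
  ([8, 9, 4, 5, 2, 3, 4, 1, 2, 3, 8, 0, 1, 2, 3, 4, 5, 6, 7], 757, 6525)]

/-- Five points, their commuting with the first point. -/
def discs (k : ℕ) : List (ℕ × Bool) :=
  [(5716, true), (5354, true), (6525, true), (6545, true), (k, com k 0)]

/-- Both fixed points commute with a point. -/
def inBoth (q : ℕ) : Bool := com eN q && com fN q

/-- A test along five steps of the cycle of a point, each step evaluated once. -/
noncomputable def alongCycle (q : ℕ) (f : Bool → Bool → Bool → Bool → Bool → Bool) : Bool :=
  strict (ActF.act.wactS wordY23 q) fun q1 => strict (ActF.act.wactS wordY23 q1) fun q2 =>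
    strict (ActF.act.wactS wordY23 q2) fun q3 => strict (ActF.act.wactS wordY23 q3) fun q4 =>
      strict (ActF.act.wactS wordY23 q4) fun q5 => f (com q q1) (com q q2) (com q q3) (com q q4) (com q q5)

theorem alongCycle_eq (q : ℕ) (f : Bool → Bool → Bool → Bool → Bool → Bool) :
    alongCycle q f = f (com q (ActF.act.wpow wordY23 1 q)) (com q (ActF.act.wpow wordY23 2 q))
      (com q (ActF.act.wpow wordY23 3 q)) (com q (ActF.act.wpow wordY23 4 q))
      (com q (ActF.act.wpow wordY23 5 q)) := by
  simp only [alongCycle, strict_eq, Act.wactS_eq]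
  rfl

/-- The pattern along the cycle of a point. -/
noncomputable def patFive (q : ℕ) : Bool := alongCycle q fun a b c d e => a && !b && c && !d && !e

/-- The other pattern. -/
noncomputable def patSix (q : ℕ) : Bool := alongCycle q fun a b c d e => !a && b && c && !d && !e

/-- A point has the listed commuting. -/
def matches' (l : List (ℕ × Bool)) (q : ℕ) : Bool :=
  List.rec (motive := fun _ => Bool) true (fun e _ ih => (com e.1 q == e.2) && ih) l

/-- The tests of one point. -/
noncomputable def scanPt (q : ℕ) : Bool :=
  (!inBoth q || ((rooted q && (!patFive q || memNat q cFive) && (!patSix q || memNat q cSix)) &&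
    (!matches' (cutTri.map fun k => (k, true)) q || memNat q tri || Nat.beq q eN || Nat.beq q fN))) &&
  ((!com fN q || com eN q) ||
    (!matches' (discs 4134) q && !matches' (discs 4152) q && !matches' (discs 4099) q)) &&
  (!(strict (ActF.act.wactS wordY23 q) fun q1 => Nat.beq q1 q) || Nat.beq q eN || Nat.beq q fN)

end

end CfsgLib.Spor.Fi24Out
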