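/-
The tests at all points, in blocks.
-/
import Cfsg.Agent.Lib.Spor.Fi24Out.SwapTest

set_option autoImplicit false
set_option maxRecDepth 100000
set_option Elab.async false

namespace CfsgLib.Spor.Fi24Out

open CfsgLib.Spor.TC

theorem swapScan0 : RangeTest scanPt 0 1000 := RangeTest.of_check (by decide +kernel)

theorem swapScan1 : RangeTest scanPt 1000 2000 := RangeTest.of_check (by decide +kernel)

theorem swapScan2 : RangeTest scanPt 2000 3000 := RangeTest.of_check (by decide +kernel)

theorem swapScan3 : RangeTest scanPt 3000 4000 := RangeTest.of_check (by decide +kernel)

theorem swapScan4 : RangeTest scanPt 4000 5000 := RangeTest.of_check (by decide +kernel)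

theorem swapScan5 : RangeTest scanPt 5000 6000 := RangeTest.of_check (by decide +kernel)

theorem swapScan6 : RangeTest scanPt 6000 7000 := RangeTest.of_check (by decide +kernel)

theorem swapScan7 : RangeTest scanPt 7000 8000 := RangeTest.of_check (by decide +kernel)

theorem swapScan8 : RangeTest scanPt 8000 9000 := RangeTest.of_check (by decide +kernel)

theorem swapScan9 : RangeTest scanPt 9000 10000 := RangeTest.of_check (by decide +kernel)

theorem swapScan10 : RangeTest scanPt 10000 11000 := RangeTest.of_check (by decide +kernel)

theorem swapScan11 : RangeTest scanPt 11000 12000 := RangeTest.of_check (by decide +kernel)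

theorem swapScan12 : RangeTest scanPt 12000 13000 := RangeTest.of_check (by decide +kernel)

theorem swapScan13 : RangeTest scanPt 13000 14000 := RangeTest.of_check (by decide +kernel)

theorem swapScan14 : RangeTest scanPt 14000 15000 := RangeTest.of_check (by decide +kernel)

theorem swapScan15 : RangeTest scanPt 15000 16000 := RangeTest.of_check (by decide +kernel)

theorem swapScan16 : RangeTest scanPt 16000 17000 := RangeTest.of_check (by decide +kernel)

theorem swapScan17 : RangeTest scanPt 17000 18000 := RangeTest.of_check (by decide +kernel)

theorem swapScan18 : RangeTest scanPt 18000 19000 := RangeTest.of_check (by decide +kernel)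

theorem swapScan19 : RangeTest scanPt 19000 20000 := RangeTest.of_check (by decide +kernel)

theorem swapScan20 : RangeTest scanPt 20000 21000 := RangeTest.of_check (by decide +kernel)

theorem swapScan21 : RangeTest scanPt 21000 22000 := RangeTest.of_check (by decide +kernel)

theorem swapScan22 : RangeTest scanPt 22000 23000 := RangeTest.of_check (by decide +kernel)

theorem swapScan23 : RangeTest scanPt 23000 24000 := RangeTest.of_check (by decide +kernel)

theorem swapScan24 : RangeTest scanPt 24000 25000 := RangeTest.of_check (by decide +kernel)

theorem swapScan25 : RangeTest scanPt 25000 26000 := RangeTest.of_check (by decide +kernel)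

theorem swapScan26 : RangeTest scanPt 26000 27000 := RangeTest.of_check (by decide +kernel)

theorem swapScan27 : RangeTest scanPt 27000 28000 := RangeTest.of_check (by decide +kernel)

theorem swapScan28 : RangeTest scanPt 28000 29000 := RangeTest.of_check (by decide +kernel)

theorem swapScan29 : RangeTest scanPt 29000 30000 := RangeTest.of_check (by decide +kernel)

theorem swapScan30 : RangeTest scanPt 30000 31000 := RangeTest.of_check (by decide +kernel)

theorem swapScan31 : RangeTest scanPt 31000 31671 := RangeTest.of_check (by decide +kernel)

theorem scan_all' : RangeTest scanPt 0 31671 :=
  (((((((((((((((((((((((((((((((swapScan0).append swapScan1).append swapScan2).append swapScan3).append swapScan4).append swapScan5).append swapScan6).append swapScan7).append swapScan8).append swapScan9).append swapScan10).append swapScan11).append swapScan12).append swapScan13).append swapScan14).append swapScan15).append swapScan16).append swapScan17).append swapScan18).append swapScan19).append swapScan20).append swapScan21).append swapScan22).append swapScan23).append swapScan24).append swapScan25).append swapScan26).append swapScan27).append swapScan28).append swapScan29).append swapScan30).append swapScan31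

end CfsgLib.Spor.Fi24Out
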