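/-
An element commuting with the word of order eleven does not interchange its two fixed points.
-/
import Cfsg.Agent.Lib.Spor.Fi24Out.SwapScan

set_option autoImplicit false
set_option maxRecDepth 100000

namespace CfsgLib.Spor.Fi24Out

open CfsgLib.Spor.TC CfsgLib.Spor.Fi23 CfsgLib.Spor.Fi23Out MulAction

noncomputable section

attribute [local instance] actionF

theorem scan_all (q : Pt) : scanPt q = true := scan_all' q (Nat.zero_le _) q.2

/-- All points of the data, with what is needed of them. -/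
theorem data_ok :
    (eN < 31671 ∧ fN < 31671 ∧ rooted eN = true ∧ rooted fN = true ∧
      ActF.act.wactS wordY23 eN = eN ∧ ActF.act.wactS wordY23 fN = fN ∧ eN ≠ fN ∧ com eN fN = true ∧
      com eN 0 = true ∧ com fN 0 = false) ∧
    (∀ q ∈ cFive ++ cSix ++ tri, q < 31671 ∧ rooted q = true) ∧
    (∀ q ∈ cFive, inBoth q = true ∧ patFive q = true ∧ ∃ i, i < 11 ∧ ActF.act.wpowS wordY23 i 236 = q) ∧
    (∀ q ∈ cSix, inBoth q = true ∧ patSix q = true) ∧
    (∀ q ∈ cSix, ∀ q' ∈ cSix, (sepFive.all fun k => com k q == com k q') = true → q = q') ∧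
    (∀ q ∈ tri, inBoth q = true ∧ matches' (cutTri.map fun k => (k, true)) q = true) ∧
    (∀ r ∈ newRows, (∀ x ∈ r.1, x < 10) ∧ ActF.act.wactS r.1 0 ∈ cFive ∧
      ActF.act.wactS (r.1 ++ 10 :: r.1.reverse) r.2.1 = r.2.2 ∧ r.2.2 < 31671 ∧ rooted r.2.2 = true) ∧
    (∀ k ∈ [4134, 4152, 4099], matches' (discs k) 0 = true) := by decide +kernel

theorem matches'_spec {l : List (ℕ × Bool)} {q : ℕ} (h : matches' l q = true) : ∀ e ∈ l, com e.1 q = e.2 := by
  induction l with
  | nil => intro e he; cases he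
  | cons a l ih =>
    change ((com a.1 q == a.2) && matches' l q) = true at h
    rw [Bool.and_eq_true] at h
    exact List.forall_mem_cons.2 ⟨beq_iff_eq.1 h.1, ih h.2⟩

theorem matches'_of {l : List (ℕ × Bool)} {q : ℕ} (h : ∀ e ∈ l, com e.1 q = e.2) : matches' l q = true := by
  induction l with
  | nil => rfl
  | cons e l ih =>
    show ((com e.1 q == e.2) && matches' l q) = true
    rw [Bool.and_eq_true]
    exact ⟨beq_iff_eq.2 (h e List.mem_cons_self), ih fun e' he' => h e' (List.mem_cons_of_mem _ he')⟩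

/-- The first fixed point. -/
def eP : Pt := ⟨eN, data_ok.1.1⟩

/-- The second fixed point. -/
def fP : Pt := ⟨fN, data_ok.1.2.1⟩

theorem yy_fix {c : Pt} (h : yy • c = c) : c = eP ∨ c = fP := by
  have h1 := scan_all c
  simp only [scanPt, Bool.and_eq_true, Bool.or_eq_true, Bool.not_eq_true'] at h1
  rcases h1.2 with (h2 | h2) | h2
  · rw [strict_eq, Act.wactS_eq, ← yy_smul, h] at h2
    exact absurd (Nat.beq_refl (c : ℕ)) (by rw [h2]; exact Bool.false_ne_true)
  · exact Or.inl (Fin.ext (Nat.eq_of_beq_eq_true h2))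
  · exact Or.inr (Fin.ext (Nat.eq_of_beq_eq_true h2))

theorem yy_eP : yy • eP = eP := Fin.ext ((yy_smul eP).trans ((Act.wactS_eq _ _ _).symm.trans data_ok.1.2.2.2.2.1))

theorem yy_fP : yy • fP = fP := Fin.ext ((yy_smul fP).trans ((Act.wactS_eq _ _ _).symm.trans data_ok.1.2.2.2.2.2.1))

theorem yy_pow_fix {c : Pt} (h : yy • c = c) : ∀ i : ℕ, yy ^ i • c = c := by
  intro i
  induction i with
  | zero => rw [pow_zero, one_smul]
  | succ i ih => rw [pow_succ', mul_smul, ih, h]

theorem com_smul {t : Gp} {x y : Pt} (hx : rooted x = true) (hx' : rooted (t • x : Pt) = true) :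
    com (t • x : Pt) (t • y : Pt) = com x y := by
  rw [Bool.eq_iff_iff, com_iff hx', com_iff hx, trp_fix_smul]

theorem com_symm {x y : Pt} (hx : rooted x = true) (hy : rooted y = true) : com x y = com y x := by
  rw [Bool.eq_iff_iff, com_iff hx, com_iff hy, trp_fix_comm]

theorem com_fixed {t : Gp} {k : Pt} (hk : rooted k = true) (htk : t • k = k) (q : Pt) :
    com k (t • q : Pt) = com k q := by
  have e := com_smul (t := t) (x := k) (y := q) hk (by rw [htk]; exact hk)
  rwa [htk] at e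

/-- No element commuting with the element of order eleven interchanges its fixed points. -/
theorem no_swap {t : Gp} (hty : Commute t yy) (he : t • eP = fP) (hf : t • fP = eP) : False := by
  have hd := data_ok
  obtain ⟨⟨-, -, heR, hfR, -, -, -, -, he0, hf0⟩, hlist, h5, h6, hsep, htri, hrows, hdisc⟩ := hd
  have hboth : ∀ (u : Gp), u • eP = fP → u • fP = eP → ∀ q : Pt, inBoth q = true → inBoth (u • q : Pt) = true := by
    intro u hue huf q hq
    simp only [inBoth, Bool.and_eq_true] at hq ⊢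
    have e1 := com_smul (t := u) (x := eP) (y := q) heR (by rw [hue]; exact hfR)
    have e2 := com_smul (t := u) (x := fP) (y := q) hfR (by rw [huf]; exact heR)
    rw [hue] at e1
    rw [huf] at e2
    exact ⟨e2.trans hq.2, e1.trans hq.1⟩
  have hscan : ∀ q : Pt, inBoth q = true → (rooted q = true ∧ (patFive q = true → (q : ℕ) ∈ cFive) ∧
      (patSix q = true → (q : ℕ) ∈ cSix)) ∧
      (matches' (cutTri.map fun k => (k, true)) q = true → (q : ℕ) ∈ tri ∨ q = eP ∨ q = fP) := by
    intro q hq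
    have h := scan_all q
    simp only [scanPt, hq, Bool.not_true, Bool.false_or, Bool.and_eq_true, Bool.or_eq_true,
      Bool.not_eq_true'] at h
    obtain ⟨⟨⟨⟨⟨hr, ha⟩, hb⟩, hc⟩, -⟩, -⟩ := h
    refine ⟨⟨hr, fun e => memNat_spec (ha.resolve_left (by rw [e]; decide)),
      fun e => memNat_spec (hb.resolve_left (by rw [e]; decide))⟩,
      fun e => ?_⟩
    rcases hc with ((hc | hc) | hc) | hc
    · rw [e] at hc; cases hc
    · exact Or.inl (memNat_spec hc)
    · exact Or.inr (Or.inl (Fin.ext (Nat.eq_of_beq_eq_true hc)))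
    · exact Or.inr (Or.inr (Fin.ext (Nat.eq_of_beq_eq_true hc)))
  have hpat : ∀ (u : Gp), Commute u yy → ∀ q : Pt, rooted q = true → rooted (u • q : Pt) = true →
      patFive (u • q : Pt) = patFive q ∧ patSix (u • q : Pt) = patSix q := by
    intro u hu q hq hq'
    have key : ∀ i, com (u • q : Pt) (ActF.act.wpow wordY23 i (u • q : Pt)) = com q (ActF.act.wpow wordY23 i q) := by
      intro i
      rw [← yy_pow_smul, ← yy_pow_smul, ← mul_smul, ← (hu.pow_right i).eq, mul_smul]
      exact com_smul hq hq'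
    constructor <;> simp only [patFive, patSix, alongCycle_eq, key]
  -- replace it so that one point of the first orbit is fixed
  let b0 : Pt := ⟨236, (hlist 236 (by decide)).1⟩
  have hb0 : (236 : ℕ) ∈ cFive := by decide
  obtain ⟨u, huy, hue, huf, hub⟩ : ∃ u : Gp, Commute u yy ∧ u • eP = fP ∧ u • fP = eP ∧ u • b0 = b0 := by
    have hin := hboth t he hf b0 (h5 _ hb0).1
    obtain ⟨⟨hr, hp, -⟩, -⟩ := hscan _ hin
    obtain ⟨i, -, hi⟩ := (h5 _ (hp ((hpat t hty b0 (hlist 236 (by decide)).2 hr).1.trans (h5 _ hb0).2.1))).2.2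
    rw [Act.wpowS_eq] at hi
    refine ⟨(yy ^ i)⁻¹ * t, ((Commute.refl yy).pow_left i).inv_left.mul_left hty, ?_, ?_, ?_⟩
    · rw [mul_smul, he, inv_smul_eq_iff, yy_pow_fix yy_fP]
    · rw [mul_smul, hf, inv_smul_eq_iff, yy_pow_fix yy_eP]
    · rw [mul_smul, inv_smul_eq_iff]
      exact Fin.ext (hi.symm.trans (yy_pow_smul i b0).symm)
  have fix5 : ∀ q : Pt, (q : ℕ) ∈ cFive → u • q = q := by
    intro q hq
    obtain ⟨j, -, hj⟩ := (h5 _ hq).2.2
    rw [Act.wpowS_eq] at hj
    rw [show q = yy ^ j • b0 from Fin.ext (hj.symm.trans (yy_pow_smul j b0).symm), ← mul_smul, (huy.pow_right j).eq,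
      mul_smul, hub]
  have fix6 : ∀ q : Pt, (q : ℕ) ∈ cSix → u • q = q := by
    intro q hq
    have hqR := (hlist q (List.mem_append_left _ (List.mem_append_right _ hq))).2
    have hin := hboth u hue huf q (h6 _ hq).1
    obtain ⟨⟨hr, -, hp⟩, -⟩ := hscan _ hin
    have hm := hp ((hpat u huy q hqR hr).2.trans (h6 _ hq).2)
    refine Fin.ext (hsep _ hm _ hq (List.all_eq_true.2 fun k hk => ?_))
    rw [beq_iff_eq]
    have hk5 : k ∈ cFive := (show ∀ z ∈ sepFive, z ∈ cFive by decide) k hk
    have hkl := hlist k (List.mem_append_left _ (List.mem_append_left _ hk5))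
    exact com_fixed (k := ⟨k, hkl.1⟩) hkl.2 (fix5 _ hk5) q
  have fixK : ∀ (k : Pt), (k : ℕ) ∈ cFive ++ cSix → u • k = k := fun k hk =>
    (List.mem_append.1 hk).elim (fix5 k) (fix6 k)
  -- the cube fixes a point of the triple
  have hmap : ∀ q : Pt, (q : ℕ) ∈ tri → ((u • q : Pt) : ℕ) ∈ tri := by
    intro q hq
    obtain ⟨-, hp⟩ := hscan _ (hboth u hue huf q (htri _ hq).1)
    have hnot : (eN : ℕ) ∉ tri ∧ (fN : ℕ) ∉ tri := by decide
    have hm : matches' (cutTri.map fun k => (k, true)) (u • q : Pt) = true := matches'_of fun e he => by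
      obtain ⟨k, hk, rfl⟩ := List.mem_map.1 he
      have hk6 : k ∈ cFive ++ cSix := (show ∀ z ∈ cutTri, z ∈ cFive ++ cSix by decide) k hk
      have hkl := hlist k (List.mem_append_left _ hk6)
      have e := matches'_spec (htri _ hq).2 (k, true) (List.mem_map.2 ⟨k, hk, rfl⟩)
      exact (com_fixed (k := ⟨k, hkl.1⟩) hkl.2 (fixK _ hk6) q).trans e
    rcases hp hm with h | h | h
    · exact h
    · rw [(MulAction.injective u (h.trans huf.symm) : q = fP)] at hq
      exact absurd hq hnot.2
    · rw [(MulAction.injective u (h.trans hue.symm) : q = eP)] at hq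
      exact absurd hq hnot.1
  obtain ⟨r, hr, hur⟩ : ∃ r : Pt, (r : ℕ) ∈ tri ∧ (u ^ 3) • r = r := by
    have h3 : ∀ p : Pt, (u ^ 3) • p = u • u • u • p := fun p => by
      rw [pow_succ, pow_two, mul_smul, mul_smul]
    let ra : Pt := ⟨835, (hlist 835 (by decide)).1⟩
    let rb : Pt := ⟨5725, (hlist 5725 (by decide)).1⟩
    let rc : Pt := ⟨22286, (hlist 22286 (by decide)).1⟩
    have hinj : ∀ p p' : Pt, u • p = u • p' → p = p' := fun p p' e => MulAction.injective u e
    have hin3 : ∀ p : Pt, (p : ℕ) ∈ tri → p = ra ∨ p = rb ∨ p = rc := fun p hp => by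
      simp only [tri, List.mem_cons, List.not_mem_nil, or_false] at hp
      exact hp.imp (fun e => Fin.ext e) (Or.imp (fun e => Fin.ext e) (fun e => Fin.ext e))
    have ma : (ra : ℕ) ∈ tri := (show (835 : ℕ) ∈ tri by decide)
    have mb : (rb : ℕ) ∈ tri := (show (5725 : ℕ) ∈ tri by decide)
    have mc : (rc : ℕ) ∈ tri := (show (22286 : ℕ) ∈ tri by decide)
    have nab : ra ≠ rb := fun e => absurd (congrArg Fin.val e) (show (835 : ℕ) ≠ 5725 by decide)
    have nac : ra ≠ rc := fun e => absurd (congrArg Fin.val e) (show (835 : ℕ) ≠ 22286 by decide)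
    have nbc : rb ≠ rc := fun e => absurd (congrArg Fin.val e) (show (5725 : ℕ) ≠ 22286 by decide)
    rcases hin3 _ (hmap _ ma) with a | a | a <;> rcases hin3 _ (hmap _ mb) with b | b | b <;>
      rcases hin3 _ (hmap _ mc) with c | c | c
    all_goals first
      | exact absurd (hinj _ _ (a.trans b.symm)) nab
      | exact absurd (hinj _ _ (a.trans c.symm)) nac
      | exact absurd (hinj _ _ (b.trans c.symm)) nbc
      | exact ⟨ra, ma, by rw [h3, a, a, a]⟩
      | exact ⟨rb, mb, by rw [h3, b, b, b]⟩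
      | exact ⟨rc, mc, by rw [h3, c, c, c]⟩
      | exact ⟨ra, ma, by rw [h3, a, b, c]⟩
      | exact ⟨ra, ma, by rw [h3, a, c, b]⟩
  have h3e : (u ^ 3) • eP = fP := by rw [pow_succ, pow_two, mul_smul, mul_smul, hue, huf, hue]
  have h3f : (u ^ 3) • fP = eP := by rw [pow_succ, pow_two, mul_smul, mul_smul, huf, hue, huf]
  have fix3 : ∀ k : Pt, (k : ℕ) ∈ cFive ++ cSix → (u ^ 3) • k = k := fun k hk => by
    rw [pow_succ, pow_two, mul_smul, mul_smul, fixK k hk, fixK k hk, fixK k hk]
  set w := u ^ 3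
  -- derived fixed points
  have hderive : ∀ row ∈ newRows, ∀ b : Pt, (b : ℕ) = row.2.1 → w • b = b →
      ∀ p : Pt, (p : ℕ) = row.2.2 → w • p = p := by
    intro row hrow b hb hwb p hp
    obtain ⟨hu, ha, hv, -, -⟩ := hrows row hrow
    rw [Act.wactS_eq] at ha hv
    let a : Pt := el row.1 • pt0
    have ea : (a : ℕ) = ActF.act.wact row.1 0 := el_smul (below_K hu) pt0
    have hwa : w • a = a := fix3 a (List.mem_append_left _ (ea ▸ ha))
    have hpab : trp a • b = p := by
      refine Fin.ext ?_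
      rw [trp_word hu ea.symm, el_smul, hb, hv, hp]
      intro z hz
      rcases List.mem_append.1 hz with h | h
      · exact below_K hu z h
      · rcases List.mem_cons.1 h with rfl | h
        · exact below3.1 10 List.mem_cons_self
        · exact below_K hu z (List.mem_reverse.1 h)
    rw [← hpab, ← mul_smul, ((Fi23Out.commute_trp_iff w a).2 hwa).eq, mul_smul, hwb]
  have h6525 : ∀ p : Pt, (p : ℕ) = 6525 → w • p = p := by
    let b : Pt := ⟨757, (hlist 757 (by decide)).1⟩
    exact hderive ([8, 9, 4, 5, 2, 3, 4, 1, 2, 3, 8, 0, 1, 2, 3, 4, 5, 6, 7], 757, 6525) (by decide) b rfl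
      (fix3 b (show (757 : ℕ) ∈ cFive ++ cSix by decide))
  obtain ⟨k, hk, hwk, hrk⟩ : ∃ k, k ∈ [4134, 4152, 4099] ∧ ∃ h : k < 31671,
      w • (⟨k, h⟩ : Pt) = ⟨k, h⟩ ∧ rooted k = true := by
    have hcase : ∀ row ∈ newRows, (r : ℕ) = row.2.1 → row.2.2 ∈ [4134, 4152, 4099] →
        ∃ k, k ∈ [4134, 4152, 4099] ∧ ∃ h : k < 31671, w • (⟨k, h⟩ : Pt) = ⟨k, h⟩ ∧ rooted k = true := by
      intro row hrow he' hk
      exact ⟨row.2.2, hk, (hrows row hrow).2.2.2.1, hderive row hrow r he' hur _ rfl,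
        (hrows row hrow).2.2.2.2⟩
    simp only [tri, List.mem_cons, List.not_mem_nil, or_false] at hr
    rcases hr with hr | hr | hr
    · exact hcase ([0, 1, 2, 3, 8, 9, 5, 4, 3, 8, 2, 3, 4, 5, 6, 7], 835, 4134) (by decide) hr (by decide)
    · exact hcase ([0, 1, 2, 3, 8, 9, 5, 4, 3, 8, 2, 3, 4, 5, 6, 7], 5725, 4152) (by decide) hr (by decide)
    · exact hcase ([2, 3, 8, 9, 5, 2, 3, 4, 1, 2, 3, 8, 0, 1, 2, 3, 4, 5, 6, 7], 22286, 4099) (by decide) hr
        (by decide)
  obtain ⟨hwk', hkR⟩ := hrk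
  -- the image of the first point cannot exist
  have hdk : ∀ e ∈ discs k, ∃ h : e.1 < 31671, rooted e.1 = true ∧ w • (⟨e.1, h⟩ : Pt) = ⟨e.1, h⟩ := by
    intro e he
    simp only [discs, List.mem_cons, List.not_mem_nil, or_false] at he
    rcases he with rfl | rfl | rfl | rfl | rfl
    · exact ⟨(hlist 5716 (by decide)).1, (hlist 5716 (by decide)).2,
        fix3 _ (show (5716 : ℕ) ∈ cFive ++ cSix by decide)⟩
    · exact ⟨(hlist 5354 (by decide)).1, (hlist 5354 (by decide)).2,
        fix3 _ (show (5354 : ℕ) ∈ cFive ++ cSix by decide)⟩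
    · have h := hrows ([8, 9, 4, 5, 2, 3, 4, 1, 2, 3, 8, 0, 1, 2, 3, 4, 5, 6, 7], 757, 6525) (by decide)
      exact ⟨h.2.2.2.1, h.2.2.2.2, h6525 _ rfl⟩
    · exact ⟨(hlist 6545 (by decide)).1, (hlist 6545 (by decide)).2,
        fix3 _ (show (6545 : ℕ) ∈ cFive ++ cSix by decide)⟩
    · exact ⟨hwk, hkR ▸ hkR, hwk'⟩
  have hm : matches' (discs k) (w • pt0 : Pt) = true := matches'_of fun e he => by
    obtain ⟨h, hR, hfx⟩ := hdk e he
    exact (com_fixed (k := ⟨e.1, h⟩) hR hfx pt0).trans (matches'_spec (hdisc k hk) e he)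
  have c1 : com fN (w • pt0 : Pt) = true := by
    have e := com_smul (t := w) (x := eP) (y := pt0) heR (by rw [h3e]; exact hfR)
    rw [h3e] at e
    exact e.trans he0
  have c2 : com eN (w • pt0 : Pt) = false := by
    have e := com_smul (t := w) (x := fP) (y := pt0) hfR (by rw [h3f]; exact heR)
    rw [h3f] at e
    exact e.trans hf0
  have h := scan_all (w • pt0)
  simp only [scanPt, c1, c2, Bool.and_eq_true, Bool.or_eq_true, Bool.not_eq_true', Bool.not_true, Bool.or_false,
    Bool.false_eq_true, false_or] at h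
  obtain ⟨⟨-, ⟨h1, h2⟩, h3⟩, -⟩ := h
  simp only [List.mem_cons, List.not_mem_nil, or_false] at hk
  rcases hk with rfl | rfl | rfl
  · rw [hm] at h1; cases h1
  · rw [hm] at h2; cases h2
  · rw [hm] at h3; cases h3

/-- An element fixing the first fixed point and commuting with all transpositions commuting with its own. -/
theorem centralizer_nbhd {t : Gp} (h : ∀ q : Pt, trp eP • q = q → t • q = q) : t = 1 ∨ t = trp eP := by
  obtain ⟨u, hu⟩ := trans_pt eP
  have key : ∀ g ∈ subH, Commute g (u⁻¹ * t * u) := by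
    intro g hg
    induction hg using Subgroup.closure_induction with
    | mem z hz =>
      obtain ⟨x, hx, rfl⟩ := hz
      have hxl : x < 10 := gensH_lt x hx
      have e := letters_trp x hxl.le
      rw [let'] at e
      rw [e]
      refine ((Fi23Out.commute_trp_iff _ _).2 ?_).symm
      have hfix : gpt x = gpt x := rfl
      have h0 : trp pt0 • gpt x = gpt x := by
        rw [← Fi23Out.commute_trp_iff, trp_pt0, ← letters_trp x hxl.le, let']
        exact ((commute_zee_iff _).2 ((mem_subH_iff _).1 (Subgroup.subset_closure ⟨x, hx, rfl⟩))).symm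
      have h1 : trp eP • (u • gpt x) = u • gpt x := by rw [← hu, trp_fix_smul]; exact h0
      rw [mul_smul, mul_smul, h _ h1, inv_smul_smul]
    | one => exact Commute.one_left _
    | mul a b _ _ ha hb => exact ha.mul_left hb
    | inv a _ ha => exact ha.inv_left
  rcases centralizer_subH key with e | e
  · left
    rw [show t = u * (u⁻¹ * t * u) * u⁻¹ by group, e, mul_one, mul_inv_cancel]
  · right
    rw [trp_eq hu, ← e]
    group

end

end CfsgLib.Spor.Fi24Out
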