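/-
Fixed points, centralizer and normalizer of the two elements.
-/
import Cfsg.Agent.Lib.Spor.Fi24Out.Gen
import Cfsg.Agent.Lib.Spor.Fi24Out.Swap

set_option autoImplicit false
set_option maxRecDepth 100000

namespace CfsgLib.Spor.Fi24Out

open CfsgLib.Spor.TC CfsgLib.Spor.Fi24 CfsgLib.Spor.Fi24Class
open scoped Pointwise commutatorElement

noncomputable section

attribute [local instance] Fi23.actionF Fi24.finite_X

theorem phiQ_eP : phiQ eP = ptE := Fin.ext word_values.2.2.2.2.2.2.2.2.1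

theorem phiQ_fP : phiQ fP = ptF := Fin.ext word_values.2.2.2.2.2.2.2.2.2.1

theorem eY_word : eY = el (wordY23.map (· + 2)) := by rw [eY, word_values.1]

/-- The orbit of the stabilizer through a point bounds the order of a stabilizing element. -/
theorem not_dvd_of_orbit {g : X₀} (hg : g ∈ subX) {p q : Fin nPts} (hp : rho g p = p)
    (O : Set (Fin nPts)) (hO : {x : Fin nPts | ∃ h ∈ subX, rho h q = x} = O) (hpO : p ∈ O) :
    orderOf g * O.ncard ∣ 2 * 4089470473293004800 := by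
  letI : MulAction subX (Fin nPts) := MulAction.compHom _ (rho.comp subX.subtype)
  obtain ⟨h, hh, e⟩ : p ∈ {x : Fin nPts | ∃ h ∈ subX, rho h q = x} := hO ▸ hpO
  have horb : MulAction.orbit subX p = O := by
    rw [← hO]
    ext x
    constructor
    · rintro ⟨⟨u, hu⟩, rfl⟩
      exact ⟨u * h, mul_mem hu hh, by rw [Fi24Class.rho_mul, e]; rfl⟩
    · rintro ⟨u, hu, rfl⟩
      refine ⟨⟨u * h⁻¹, mul_mem hu (inv_mem hh)⟩, ?_⟩
      show rho (u * h⁻¹) p = rho u q
      rw [Fi24Class.rho_mul, ← e, rho_inv_apply]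
  have h1 : Nat.card (MulAction.orbit subX p) * Nat.card (MulAction.stabilizer subX p) = Nat.card subX := by
    rw [← Nat.card_prod]
    exact Nat.card_congr (MulAction.orbitProdStabilizerEquivGroup subX p)
  rw [horb, Nat.card_coe_set_eq, card_subX all_points all_phi all_roots] at h1
  have h2 : orderOf g ∣ Nat.card (MulAction.stabilizer subX p) := by
    have hm : (⟨g, hg⟩ : subX) ∈ MulAction.stabilizer subX p := hp
    have := orderOf_dvd_natCard (⟨⟨g, hg⟩, hm⟩ : MulAction.stabilizer subX p)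
    rwa [← Subgroup.orderOf_coe, ← Subgroup.orderOf_coe] at this
  rw [← h1, mul_comm O.ncard]
  exact Nat.mul_dvd_mul_right h2 _

theorem eS_fix {p : Fin nPts} (h : rho eS p = p) : p = pt0 := by
  rcases class_of_point p with h0 | ⟨hA, -⟩ | ⟨hn, hp0, -⟩
  · exact h0
  · have := not_dvd_of_orbit eS_K.1 h _ orbit_965 hA
    rw [order_eS, card_InA] at this
    norm_num at this
  · have := not_dvd_of_orbit eS_K.1 h _ orbit_1 ⟨hn, hp0⟩
    rw [order_eS, card_rest] at this
    norm_num at this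

theorem eY_fix {p : Fin nPts} (h : rho eY p = p) : p = pt0 ∨ p = ptE ∨ p = ptF := by
  rcases class_of_point p with h0 | ⟨hA, -⟩ | ⟨hn, hp0, -⟩
  · exact Or.inl h0
  · obtain ⟨c, rfl⟩ := exists_phiQ hA
    rw [eY_word, rho_el_phi wordY23_below] at h
    rcases yy_fix (phiQ_injective h) with e | e
    · exact Or.inr (Or.inl (by rw [e, phiQ_eP]))
    · exact Or.inr (Or.inr (by rw [e, phiQ_fP]))
  · have := not_dvd_of_orbit eY_K.1 h _ orbit_1 ⟨hn, hp0⟩
    rw [order_eY, card_rest] at this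
    norm_num at this

theorem trp_map_fix {g : X₀} {p q : Fin nPts} (h : rho g p = q) :
    g * Fi24Class.trp p * g⁻¹ = Fi24Class.trp q := by rw [← trp_smul, h]

theorem trp_sq (p : Fin nPts) : Fi24Class.trp p * Fi24Class.trp p = 1 := by
  unfold Fi24Class.trp
  rw [show rep p * zee * (rep p)⁻¹ * (rep p * zee * (rep p)⁻¹) = rep p * (zee * zee) * (rep p)⁻¹ by group,
    Fi24Class.sq_gen, mul_one, mul_inv_cancel]

/-- An element of the stabilizer commuting with the element of order eleven fixes its fixed points. -/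
theorem K_fix {g : X₀} (hg : g ∈ K₀) (hc : Commute g eY) : rho g ptE = ptE ∧ rho g ptF = ptF := by
  obtain ⟨k, rfl⟩ := exists_iota hg
  have hz : iota (yy) = eY := by
    rcases iota_word wordY23_below with e | e
    · rw [eY_word]; exact e
    · exfalso
      have h2 : el (wordY23.map (· + 2)) * zee ∈ M₀ := e ▸ (iota_mem _).2
      rw [← eY_word] at h2
      have h3 := M₀.mul_mem (M₀.inv_mem eY_K.2) h2
      rw [inv_mul_cancel_left] at h3
      exact zee_not_mem h3
  have hk : Commute k yy := by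
    have e : iota (k * yy) = iota (yy * k) := by rw [map_mul, map_mul, hz, hc.eq]
    exact iota_injective e
  have hfix : ∀ c : Fi23Out.Pt, yy • c = c → yy • (k • c) = k • c := fun c h => by
    rw [← mul_smul, ← hk.eq, mul_smul, h]
  rw [← phiQ_eP, ← phiQ_fP, rho_iota, rho_iota]
  rcases yy_fix (hfix eP yy_eP) with e | e <;> rcases yy_fix (hfix fP yy_fP) with f | f
  · exact absurd (MulAction.injective k (e.trans f.symm)) (fun h => data_ok.1.2.2.2.2.2.2.1 (congrArg Fin.val h))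
  · exact ⟨by rw [e], by rw [f]⟩
  · exact (no_swap hk e f).elim
  · exact absurd (MulAction.injective k (e.trans f.symm)) (fun h => data_ok.1.2.2.2.2.2.2.1 (congrArg Fin.val h))

theorem pts_ne : pt0 ≠ ptE ∧ pt0 ≠ ptF ∧ ptE ≠ ptF :=
  ⟨fun h => absurd (congrArg Fin.val h) (show (0 : ℕ) ≠ 3909 by decide),
    fun h => absurd (congrArg Fin.val h) (show (0 : ℕ) ≠ 3963 by decide),
    fun h => absurd (congrArg Fin.val h) (show (3909 : ℕ) ≠ 3963 by decide)⟩

theorem eA_pow_pts : ∀ i : ℕ, i < 3 → rho (eA ^ i) pt0 = [pt0, ptE, ptF].getD i pt0 ∧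
    rho (eA ^ i) ptE = [ptE, ptF, pt0].getD i pt0 ∧ rho (eA ^ i) ptF = [ptF, pt0, ptE].getD i pt0 := by
  obtain ⟨a0, a1, a2⟩ := eA_pts
  intro i hi
  interval_cases i
  · simp
  · simp [a0, a1, a2]
  · simp [pow_two, a0, a1, a2]

/-- An element commuting with the element of order eleven permutes its fixed points cyclically. -/
theorem cyclic_on_pts {g : X₀} (hg : g ∈ M₀) (hc : Commute g eY) :
    ∃ i, i < 3 ∧ ∀ p ∈ [pt0, ptE, ptF], rho g p = rho (eA ^ i) p := by
  obtain ⟨y0, y1, y2⟩ := eY_pts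
  have hq : rho eY (rho g pt0) = rho g pt0 := by rw [← Fi24Class.rho_mul, ← hc.eq, Fi24Class.rho_mul, y0]
  obtain ⟨i, hi, e⟩ : ∃ i, i < 3 ∧ rho (eA ^ i) pt0 = rho g pt0 := by
    rcases eY_fix hq with h | h | h
    · exact ⟨0, by norm_num, by rw [(eA_pow_pts 0 (by norm_num)).1, h]; rfl⟩
    · exact ⟨1, by norm_num, by rw [(eA_pow_pts 1 (by norm_num)).1, h]; rfl⟩
    · exact ⟨2, by norm_num, by rw [(eA_pow_pts 2 (by norm_num)).1, h]; rfl⟩
  have h0 : rho ((eA ^ i)⁻¹ * g) pt0 = pt0 := by rw [Fi24Class.rho_mul, ← e, rho_inv_apply]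
  obtain ⟨hE, hF⟩ := K_fix (g := (eA ^ i)⁻¹ * g) ⟨mem_subX.2 h0, M₀.mul_mem (M₀.inv_mem (M₀.pow_mem eA_M i)) hg⟩
    (((eA_eY.pow_left i).inv_left).mul_left hc)
  have key : ∀ p, rho ((eA ^ i)⁻¹ * g) p = p → rho g p = rho (eA ^ i) p := fun p hp => by
    conv_rhs => rw [← hp, ← Fi24Class.rho_mul, mul_inv_cancel_left]
  refine ⟨i, hi, fun p hp => ?_⟩
  simp only [List.mem_cons, List.not_mem_nil, or_false] at hp
  rcases hp with rfl | rfl | rfl
  exacts [key _ h0, key _ hE, key _ hF]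

/-- A commutator of two such elements fixes the first point. -/
theorem commutator_fix {g h : X₀} (hg : g ∈ M₀) (hgc : Commute g eY) (hh : h ∈ M₀) (hhc : Commute h eY) :
    rho ⁅g, h⁆ pt0 = pt0 := by
  obtain ⟨i, -, hi⟩ := cyclic_on_pts hg hgc
  obtain ⟨j, -, hj⟩ := cyclic_on_pts hh hhc
  obtain ⟨a0, a1, a2⟩ := eA_pts
  have hmem : ∀ m : ℕ, ∀ p ∈ [pt0, ptE, ptF], rho (eA ^ m) p ∈ [pt0, ptE, ptF] := by
    intro m
    induction m with
    | zero => simp
    | succ m ih =>
      intro p hp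
      rw [pow_succ', Fi24Class.rho_mul]
      have := ih p hp
      simp only [List.mem_cons, List.not_mem_nil, or_false] at this ⊢
      rcases this with e | e | e <;> rw [e] <;> simp [a0, a1, a2]
  rw [commutatorElement_def, show g * h * g⁻¹ * h⁻¹ = g * h * (h * g)⁻¹ by group]
  have hclosed : ∀ p ∈ [pt0, ptE, ptF], rho (g * h) p = rho (h * g) p := by
    intro p hp
    rw [Fi24Class.rho_mul, Fi24Class.rho_mul, hj _ hp, hi _ (hmem j _ hp), hi _ hp, hj _ (hmem i _ hp),
      ← Fi24Class.rho_mul, ← Fi24Class.rho_mul, ← pow_add, ← pow_add, add_comm]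
  -- the first point is the image of one of the three
  obtain ⟨p, hp, e⟩ : ∃ p ∈ [pt0, ptE, ptF], rho (h * g) p = pt0 := by
    have hb : ∀ p ∈ [pt0, ptE, ptF], rho (h * g) p = rho (eA ^ (j + i)) p := fun p hp => by
      rw [Fi24Class.rho_mul, hi _ hp, hj _ (hmem i _ hp), ← Fi24Class.rho_mul, ← pow_add]
    have h3 : ∀ n : ℕ, ∃ p ∈ [pt0, ptE, ptF], rho (eA ^ n) p = pt0 := by
      intro n
      induction n with
      | zero => exact ⟨pt0, List.mem_cons_self, by simp⟩
      | succ n ih =>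
        obtain ⟨p, hp, e⟩ := ih
        obtain ⟨p', hp', e'⟩ : ∃ p' ∈ [pt0, ptE, ptF], rho eA p' = p := by
          simp only [List.mem_cons, List.not_mem_nil, or_false] at hp
          rcases hp with rfl | rfl | rfl
          · exact ⟨ptF, by simp, a2⟩
          · exact ⟨pt0, by simp, a0⟩
          · exact ⟨ptE, by simp, a1⟩
        exact ⟨p', hp', by rw [pow_succ, Fi24Class.rho_mul, e', e]⟩
    obtain ⟨p, hp, e⟩ := h3 (j + i)
    exact ⟨p, hp, (hb p hp).trans e⟩
  rw [Fi24Class.rho_mul, show rho (h * g)⁻¹ pt0 = p by rw [← e, rho_inv_apply], hclosed p hp, e]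

end

end CfsgLib.Spor.Fi24Out
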