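/-
The automorphisms of the commutator subgroup of the presented group on twelve generators.
-/
import Cfsg.Agent.Lib.Spor.Fi24Out.Fix
import Cfsg.Agent.Lib.Spor.Fi23Out.Out
import Cfsg.Prelude.Def_Spor_Fi24
import Cfsg.Prelude.Def_KGroupFacts
import Mathlib.GroupTheory.Sylow

set_option autoImplicit false
set_option maxRecDepth 100000

namespace CfsgLib.Spor.Fi24Out

open CfsgLib.Spor.TC CfsgLib.Spor.Fi24 CfsgLib.Spor.Fi24Class
open scoped Pointwise commutatorElement

noncomputable section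

attribute [local instance] Fi23.actionF Fi24.finite_X

/-- Two elements of a prime order dividing the group order once generate conjugate subgroups. -/
theorem exists_conj_mem_zpowers {G : Type*} [Group G] [Finite G] {p : ℕ} (hp : p.Prime)
    (hG : ¬ p ^ 2 ∣ Nat.card G) {x y : G} (hx : orderOf x = p) (hy : orderOf y = p) :
    ∃ g : G, g * x * g⁻¹ ∈ Subgroup.zpowers y := by
  haveI : Fact p.Prime := ⟨hp⟩
  have hf : (Nat.card G).factorization p = 1 := by
    have hne : Nat.card G ≠ 0 := Nat.card_pos.ne'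
    have h1 := (hp.pow_dvd_iff_le_factorization (k := 1) hne).1 (by rw [pow_one, ← hx]; exact orderOf_dvd_natCard x)
    have h2 : ¬ 2 ≤ (Nat.card G).factorization p := fun h => hG ((hp.pow_dvd_iff_le_factorization hne).2 h)
    omega
  have hcard : ∀ u : G, orderOf u = p → Nat.card (Subgroup.zpowers u) = p ^ (Nat.card G).factorization p :=
    fun u hu => by rw [Nat.card_zpowers, hu, hf, pow_one]
  obtain ⟨g, hg⟩ := MulAction.exists_smul_eq G (Sylow.ofCard _ (hcard _ hx)) (Sylow.ofCard _ (hcard _ hy))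
  have hg' : MulAut.conj g • Subgroup.zpowers x = Subgroup.zpowers y := congrArg Sylow.toSubgroup hg
  exact ⟨g, hg' ▸ Subgroup.smul_mem_pointwise_smul _ _ _ (Subgroup.mem_zpowers x)⟩

/-- The element of order twenty-three in the commutator subgroup. -/
def mS : M₀ := ⟨eS, eS_K.2⟩

/-- The element of order eleven in the commutator subgroup. -/
def mY : M₀ := ⟨eY, eY_K.2⟩

/-- The element permuting the fixed points, in the commutator subgroup. -/
def mA : M₀ := ⟨eA, eA_M⟩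

/-- The product of the first transposition and another, in the commutator subgroup. -/
def mU (p : Fin nPts) : M₀ := ⟨uu p, uu_M p⟩

theorem order_mS : orderOf mS = 23 := by rw [← Subgroup.orderOf_coe]; exact order_eS

theorem order_mY : orderOf mY = 11 := by rw [← Subgroup.orderOf_coe]; exact order_eY

theorem mem_zpowers_comm {G : Type*} [Group G] [Finite G] {x y : G} (h : x ∈ Subgroup.zpowers y)
    (ho : orderOf x = orderOf y) : y ∈ Subgroup.zpowers x := by
  have e : Subgroup.zpowers x = Subgroup.zpowers y :=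
    Subgroup.eq_of_le_of_card_ge (Subgroup.zpowers_le.2 h) (by rw [Nat.card_zpowers, Nat.card_zpowers, ho])
  rw [e]; exact Subgroup.mem_zpowers y

theorem zpowers_fix {x : M₀} (h : x ∈ Subgroup.zpowers mS) : (x : X₀) ∈ K₀ := by
  obtain ⟨n, rfl⟩ := h
  show ((mS ^ n : M₀) : X₀) ∈ K₀
  rw [Subgroup.coe_zpow]
  exact Subgroup.zpow_mem _ eS_K n

/-- The elements normalising the subgroup of order twenty-three. -/
def normS : Subgroup M₀ where
  carrier := {n | (∀ x ∈ Subgroup.zpowers mS, n * x * n⁻¹ ∈ Subgroup.zpowers mS) ∧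
    ∀ x ∈ Subgroup.zpowers mS, n⁻¹ * x * n ∈ Subgroup.zpowers mS}
  one_mem' := ⟨fun x hx => by simpa using hx, fun x hx => by simpa using hx⟩
  mul_mem' := fun {a b} ha hb =>
    ⟨fun x hx => by
      rw [show a * b * x * (a * b)⁻¹ = a * (b * x * b⁻¹) * a⁻¹ by group]; exact ha.1 _ (hb.1 x hx),
    fun x hx => by
      rw [show (a * b)⁻¹ * x * (a * b) = b⁻¹ * (a⁻¹ * x * a) * b by group]; exact hb.2 _ (ha.2 x hx)⟩
  inv_mem' := fun {a} ha => ⟨fun x hx => by rw [inv_inv]; exact ha.2 x hx,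
    fun x hx => by rw [inv_inv]; exact ha.1 x hx⟩

theorem mem_normS {n : M₀} (h : n * mS * n⁻¹ ∈ Subgroup.zpowers mS) : n ∈ normS := by
  have hle : (Subgroup.zpowers mS).map (MulAut.conj n).toMonoidHom ≤ Subgroup.zpowers mS := by
    rw [MonoidHom.map_zpowers, Subgroup.zpowers_le]
    exact h
  have heq := Subgroup.eq_of_le_of_card_ge hle
    (le_of_eq (Subgroup.card_map_of_injective (MulAut.conj n).injective).symm)
  refine ⟨fun x hx => hle ⟨x, hx, rfl⟩, fun x hx => ?_⟩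
  rw [← heq] at hx
  obtain ⟨z, hz, rfl⟩ := hx
  rw [show n⁻¹ * (MulAut.conj n).toMonoidHom z * n = z by
    show n⁻¹ * (n * z * n⁻¹) * n = z
    group]
  exact hz

theorem normS_fix {n : M₀} (h : n ∈ normS) : rho (n : X₀) pt0 = pt0 := by
  refine eS_fix ?_
  have h2 := mem_subX.1 (zpowers_fix (h.2 _ (Subgroup.mem_zpowers mS))).1
  have e : eS * (n : X₀) = (n : X₀) * ((n⁻¹ * mS * n : M₀) : X₀) := by
    simp only [Subgroup.coe_mul, Subgroup.coe_inv, mS]
    group
  rw [← Fi24Class.rho_mul, e, Fi24Class.rho_mul, h2]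

theorem mY_normS : mY ∈ normS := by
  refine mem_normS ?_
  have e : mY * mS * mY⁻¹ = mS ^ 2 := by
    refine Subtype.ext ?_
    simp only [Subgroup.coe_mul, Subgroup.coe_inv, Subgroup.coe_pow, mS, mY]
    rw [eY_eS, mul_inv_cancel_right]
  rw [e]
  exact Subgroup.pow_mem _ (Subgroup.mem_zpowers mS) 2

/-- An automorphism can be composed with an inner one to fix both cyclic subgroups. -/
theorem exists_step (α : MulAut M₀) : ∃ g : M₀, (MulAut.conj g * α) mS ∈ Subgroup.zpowers mS ∧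
    (MulAut.conj g * α) mY ∈ Subgroup.zpowers mY := by
  obtain ⟨g, hg⟩ := exists_conj_mem_zpowers (p := 23) (x := α mS) (y := mS) (by norm_num)
    (by rw [card_M]; norm_num) ((MulEquiv.orderOf_eq α mS).trans order_mS) order_mS
  have hN : g * α mY * g⁻¹ ∈ normS := by
    refine mem_normS ?_
    obtain ⟨β, hβ⟩ : ∃ β : MulAut M₀, β = MulAut.conj g * α := ⟨_, rfl⟩
    have hbY : g * α mY * g⁻¹ = β mY := by rw [hβ]; rfl
    have hbS : β mS ∈ Subgroup.zpowers mS := by rw [hβ]; exact hg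
    have hgen := mem_zpowers_comm hbS (MulEquiv.orderOf_eq β mS)
    obtain ⟨k, hk⟩ := hgen
    obtain ⟨l, hl⟩ := hbS
    have hY := mY_normS.1 _ (Subgroup.mem_zpowers mS)
    obtain ⟨m, hm⟩ := hY
    rw [hbY]
    have e : β mY * mS * (β mY)⁻¹ = (β (mY * mS * mY⁻¹)) ^ k := by
      conv_lhs => rw [← hk]
      show β mY * (β mS) ^ k * (β mY)⁻¹ = _
      rw [map_mul, map_mul, map_inv, conj_zpow]
    rw [e, ← hm]
    show (β (mS ^ m)) ^ k ∈ _
    rw [map_zpow, ← hl]
    exact Subgroup.zpow_mem _ (Subgroup.zpow_mem _ (Subgroup.zpow_mem _ (Subgroup.mem_zpowers mS) l) m) k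
  have hdvd : ¬ 11 ^ 2 ∣ Nat.card normS := fun h => by
    have := h.trans (Subgroup.card_subgroup_dvd_card normS)
    rw [card_M] at this
    norm_num at this
  obtain ⟨⟨n, hn⟩, hn'⟩ := exists_conj_mem_zpowers (G := normS) (p := 11) (x := ⟨_, hN⟩) (y := ⟨mY, mY_normS⟩)
    (by norm_num) hdvd
    (by
      rw [← Subgroup.orderOf_coe]
      show orderOf (g * α mY * g⁻¹) = 11
      rw [show g * α mY * g⁻¹ = MulAut.conj g (α mY) from rfl, MulEquiv.orderOf_eq, MulEquiv.orderOf_eq, order_mY])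
    (by rw [← Subgroup.orderOf_coe]; exact order_mY)
  refine ⟨n * g, ?_, ?_⟩
  · have := hn.1 _ hg
    rwa [show n * (g * α mS * g⁻¹) * n⁻¹ = (MulAut.conj (n * g) * α) mS by
      simp only [MulAut.mul_apply, MulAut.conj_apply]; group] at this
  · obtain ⟨k, hk⟩ := hn'
    refine ⟨k, ?_⟩
    have h2 := congrArg Subtype.val hk
    simp only [Subgroup.coe_zpow, Subgroup.coe_mul, Subgroup.coe_inv] at h2
    rw [show (MulAut.conj (n * g) * α) mY = n * (g * α mY * g⁻¹) * n⁻¹ by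
      simp only [MulAut.mul_apply, MulAut.conj_apply]; group]
    exact h2

theorem commute_uuF : Commute (uu ptF) eY := by
  have h := conj_uu eY_K.1 ptF
  rw [eY_pts.2.2] at h
  exact (show eY * uu ptF = uu ptF * eY from mul_inv_eq_iff_eq_mul.1 h).symm

theorem commute_trpEF : Commute (Fi24Class.trp ptE) (Fi24Class.trp ptF) := by
  have h := (commute_zee_trp inA_ptE).map (MulAut.conj eA).toMonoidHom
  rw [← trp_pt0] at h
  simpa only [MulEquiv.toMonoidHom_eq_coe, MonoidHom.coe_coe, MulAut.conj_apply, trp_map_fix eA_pts.1,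
    trp_map_fix eA_pts.2.1] using h

theorem uuE_eq : ⁅mA⁻¹, mU ptF⁆ = mU ptE := by
  refine Subtype.ext ?_
  show eA⁻¹ * uu ptF * eA⁻¹⁻¹ * (uu ptF)⁻¹ = uu ptE
  obtain ⟨a0, a1, a2⟩ := eA_pts
  have i0 : rho eA⁻¹ pt0 = ptF := by rw [← a2, rho_inv_apply]
  have i2 : rho eA⁻¹ ptF = ptE := by rw [← a1, rho_inv_apply]
  have hz : eA⁻¹ * zee * eA⁻¹⁻¹ = Fi24Class.trp ptF := by rw [← trp_pt0, trp_map_fix i0]
  have h1 : eA⁻¹ * uu ptF * eA⁻¹⁻¹ = Fi24Class.trp ptF * Fi24Class.trp ptE := by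
    rw [← hz, ← trp_map_fix i2, uu]; group
  have hi : ∀ p, (Fi24Class.trp p)⁻¹ = Fi24Class.trp p := fun p => inv_eq_of_mul_eq_one_right (trp_sq p)
  rw [h1, uu, uu, mul_inv_rev, hi, gen_inv, ← commute_trpEF.eq, mul_assoc, ← mul_assoc (Fi24Class.trp ptF),
    trp_sq, one_mul, (commute_zee_trp inA_ptE).eq]

/-- An automorphism fixing both cyclic subgroups preserves the stabilizer. -/
theorem maps_K {α : MulAut M₀} (hS : α mS ∈ Subgroup.zpowers mS) (hY : α mY ∈ Subgroup.zpowers mY) (m : M₀)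
    (hm : (m : X₀) ∈ K₀) : (α m : X₀) ∈ K₀ := by
  have hY' := mem_zpowers_comm hY (MulEquiv.orderOf_eq α mY)
  have hcent : ∀ n : M₀, Commute (n : X₀) eY → Commute (α n : X₀) eY := by
    intro n hn
    have h1 : Commute n mY := Subtype.ext hn.eq
    obtain ⟨k, hk⟩ := hY'
    have h2 : Commute (α n) mY := by
      rw [← hk]; exact (h1.map α.toMonoidHom).zpow_right k
    exact congrArg Subtype.val h2.eq
  have hE : (α (mU ptE) : X₀) ∈ K₀ := by
    refine ⟨mem_subX.2 ?_, (α (mU ptE)).2⟩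
    rw [← uuE_eq, map_commutatorElement]
    exact commutator_fix (α mA⁻¹).2 (hcent _ eA_eY.inv_left) (α (mU ptF)).2 (hcent _ commute_uuF)
  let P : Subgroup X₀ := (K₀.comap (M₀.subtype.comp α.toMonoidHom)).map M₀.subtype
  have hP : genH ≤ P := by
    rw [genH, Subgroup.closure_le]
    rintro x (rfl | rfl)
    · exact ⟨mS, zpowers_fix hS, rfl⟩
    · exact ⟨mU ptE, hE, rfl⟩
  rw [← genH_eq] at hm
  obtain ⟨m', hm', e⟩ := hP hm
  rw [show m = m' from Subtype.ext e.symm]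
  exact hm'

/-- An automorphism preserving the stabilizer is inner on it. -/
theorem inner_on_K {α : MulAut M₀} (h : ∀ m : M₀, (m : X₀) ∈ K₀ → (α m : X₀) ∈ K₀) :
    ∃ g : M₀, ∀ m : M₀, (m : X₀) ∈ K₀ → (MulAut.conj g * α) m = m := by
  have : Finite Fi23Out.Gp := Finite.of_injective _ iota_injective
  let f : Fi23Out.Gp →* K₀ :=
    { toFun := fun g => ⟨α ⟨iota g, (iota_mem g).2⟩, h _ (iota_mem g)⟩
      map_one' := Subtype.ext (by
        show (α ⟨iota 1, _⟩ : X₀) = 1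
        rw [show (⟨iota 1, (iota_mem 1).2⟩ : M₀) = 1 from Subtype.ext (map_one iota), map_one]; rfl)
      map_mul' := fun a b => Subtype.ext (by
        show (α ⟨iota (a * b), _⟩ : X₀) = (α _ : X₀) * (α _ : X₀)
        rw [show (⟨iota (a * b), (iota_mem _).2⟩ : M₀) = ⟨iota a, (iota_mem a).2⟩ * ⟨iota b, (iota_mem b).2⟩ from
          Subtype.ext (map_mul iota a b), map_mul]
        rfl) }
  let f' : Fi23Out.Gp →* Fi23Out.Gp := iotaEquiv.symm.toMonoidHom.comp f
  have hinj : Function.Injective f' := fun a b e => by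
    have e1 : (α ⟨iota a, (iota_mem a).2⟩ : X₀) = α ⟨iota b, (iota_mem b).2⟩ :=
      congrArg (fun x : K₀ => (x : X₀)) (iotaEquiv.symm.injective e)
    exact iota_injective (congrArg (fun x : M₀ => (x : X₀)) (α.injective (Subtype.ext e1)))
  obtain ⟨u, hu⟩ := Fi23Out.all_inner (MulEquiv.ofBijective f' (Finite.injective_iff_bijective.1 hinj))
  refine ⟨(⟨iota u, (iota_mem u).2⟩ : M₀)⁻¹, fun m hm => ?_⟩
  obtain ⟨a, ha⟩ := exists_iota hm
  obtain rfl : m = ⟨iota a, (iota_mem a).2⟩ := Subtype.ext ha.symm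
  have e : iotaEquiv.symm (f a) = u * a * u⁻¹ := (DFunLike.congr_fun hu a).symm.trans (MulAut.conj_apply _ _)
  have e1 : (α ⟨iota a, (iota_mem a).2⟩ : X₀) = iota (u * a * u⁻¹) := by
    show ((f a : K₀) : X₀) = ((iotaEquiv (u * a * u⁻¹) : K₀) : X₀)
    rw [← e, iotaEquiv.apply_symm_apply]
  refine Subtype.ext ?_
  rw [MulAut.mul_apply, MulAut.conj_apply]
  simp only [Subgroup.coe_mul, Subgroup.coe_inv, inv_inv, e1, map_mul, map_inv]
  group

/-- A subgroup with the stabilizer and one more element is transitive, so is everything. -/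
theorem eq_M_of_K_A {L : Subgroup X₀} (hL : L ≤ M₀) (hK : K₀ ≤ L) (hA : eA ∈ L) :
    (∀ p : Fin nPts, ∃ l ∈ L, rho l pt0 = p) ∧ L = M₀ := by
  have hInA : ∀ p : Fin nPts, InA p → ∃ l ∈ L, rho l pt0 = p := by
    intro p hp
    obtain ⟨c, rfl⟩ := exists_phiQ hp
    obtain ⟨u, hu⟩ := Fi23Out.trans_pt c
    obtain ⟨w, hw⟩ := Fi23Out.trans_pt eP
    refine ⟨iota (u * w⁻¹) * eA, L.mul_mem (hK (iota_mem _)) hA, ?_⟩
    rw [Fi24Class.rho_mul, eA_pts.1, ← phiQ_eP, rho_iota]
    congr 1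
    rw [← hw, ← mul_smul, inv_mul_cancel_right, hu]
  obtain ⟨p1, hp1, hn1⟩ : ∃ p1, (∃ l ∈ L, rho l pt0 = p1) ∧ (¬ InA p1 ∧ (p1 : ℕ) ≠ 0) := by
    have hk : el [7, 6] ∈ subX := by
      show ev (presGen 12 relsX) [7, 6] ∈ subX
      rw [show ev (presGen 12 relsX) [7, 6] = gen 7 * gen 6 by simp [ev]]
      exact mul_mem (Fi24.gen_mem (by decide)) (Fi24.gen_mem (by decide))
    obtain ⟨l, hl, el'⟩ := hInA _ (inA_rho hk inA_ptE)
    refine ⟨rho eA (rho (el [7, 6]) ptE), ⟨eA * l, L.mul_mem hA hl, by rw [Fi24Class.rho_mul, el']⟩, ?_⟩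
    have e : (rho eA (rho (el [7, 6]) ptE) : ℕ) = 241307 := by
      rw [show eA = el wordA from rfl, el_val words_lt.2.2, el_val (by decide)]
      exact word_values.2.2.2.2.2.2.2.2.2.2.1
    simp only [InA]
    omega
  have htr : ∀ p : Fin nPts, ∃ l ∈ L, rho l pt0 = p := by
    intro p
    rcases class_of_point p with rfl | ⟨hA', -⟩ | ⟨hn, hp0, -⟩
    · exact ⟨1, L.one_mem, by rw [map_one]; rfl⟩
    · exact hInA p hA'
    · obtain ⟨g1, hg1, e1⟩ := (Set.ext_iff.1 orbit_1 p1).2 hn1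
      obtain ⟨g, hg, e⟩ := (Set.ext_iff.1 orbit_1 p).2 ⟨hn, hp0⟩
      obtain ⟨l, hl, el'⟩ := hp1
      by_cases hM : g * g1⁻¹ ∈ M₀
      · exact ⟨g * g1⁻¹ * l, L.mul_mem (hK ⟨subX.mul_mem hg (subX.inv_mem hg1), hM⟩) hl, by
          rw [Fi24Class.rho_mul, el', ← e1, Fi24Class.rho_mul, rho_inv_apply, e]⟩
      · have h5 : gen 5 ∉ M₀ := gen_not_mem 5 (by norm_num)
        have hfix : rho (gen 5) pt1 = pt1 :=
          Fin.ext ((rho_gen_val (by norm_num) _).trans word_values.2.2.2.2.2.2.2.2.2.2.2.1)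
        have hmem : g * gen 5 * g1⁻¹ ∈ K₀ := by
          refine ⟨subX.mul_mem (subX.mul_mem hg (Fi24.gen_mem (by decide))) (subX.inv_mem hg1), ?_⟩
          have h6 : g1 * gen 5 * g1⁻¹ ∉ M₀ := fun h => h5 (by
            have := (inferInstance : M₀.Normal).conj_mem _ h g1⁻¹
            rwa [show g1⁻¹ * (g1 * gen 5 * g1⁻¹) * g1⁻¹⁻¹ = gen 5 by group] at this)
          have := (Subgroup.mul_mem_iff_of_index_two index_M).2 (iff_of_false hM h6)
          rwa [show g * g1⁻¹ * (g1 * gen 5 * g1⁻¹) = g * gen 5 * g1⁻¹ by group] at this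
        exact ⟨g * gen 5 * g1⁻¹ * l, L.mul_mem (hK hmem) hl, by
          rw [Fi24Class.rho_mul, el', ← e1, Fi24Class.rho_mul, Fi24Class.rho_mul, rho_inv_apply, hfix, e]⟩
  refine ⟨htr, le_antisymm hL fun m hm => ?_⟩
  obtain ⟨l, hl, e⟩ := htr (rho m pt0)
  have h1 : l⁻¹ * m ∈ K₀ :=
    ⟨mem_subX.2 (by rw [Fi24Class.rho_mul, ← e, rho_inv_apply]), M₀.mul_mem (M₀.inv_mem (hL hl)) hm⟩
  have h2 := L.mul_mem hl (hK h1)
  rwa [mul_inv_cancel_left] at h2

theorem eq_one_of_commute {c : X₀} (h : ∀ m ∈ M₀, Commute c m) : c = 1 := by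
  have h0 : rho c pt0 = pt0 := eS_fix (by
    rw [← Fi24Class.rho_mul, ← (h _ eS_K.2).eq, Fi24Class.rho_mul, mem_subX.1 eS_K.1])
  refine rho_inj (Equiv.ext fun p => ?_)
  rw [map_one, Equiv.Perm.one_apply]
  obtain ⟨l, hl, rfl⟩ := (eq_M_of_K_A le_rfl inf_le_right eA_M).1 p
  rw [← Fi24Class.rho_mul, (h l hl).eq, Fi24Class.rho_mul, h0]

/-- An automorphism fixing the stabilizer is trivial or conjugation by the first transposition. -/
theorem fix_K_cases {α : MulAut M₀} (h : ∀ m : M₀, (m : X₀) ∈ K₀ → α m = m) :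
    ∃ g : X₀, ∀ m : M₀, (α m : X₀) = g * m * g⁻¹ := by
  obtain ⟨b, hb⟩ : ∃ b : X₀, b = (α mA : X₀) := ⟨_, rfl⟩
  have hbM : b ∈ M₀ := hb ▸ (α mA).2
  have hbY : Commute b eY := by
    have h1 : Commute mA mY := Subtype.ext eA_eY.eq
    have h2 := h1.map α.toMonoidHom
    simp only [MulEquiv.toMonoidHom_eq_coe, MonoidHom.coe_coe, h mY eY_K] at h2
    rw [hb]
    exact congrArg Subtype.val h2.eq
  obtain ⟨c, hc⟩ : ∃ c : X₀, c = b * eA⁻¹ := ⟨_, rfl⟩
  have hcM : c ∈ M₀ := hc ▸ M₀.mul_mem hbM (M₀.inv_mem eA_M)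
  have hcY : Commute c eY := hc ▸ hbY.mul_left eA_eY.inv_left
  obtain ⟨a0, a1, a2⟩ := eA_pts
  have hO : ∀ q : Fin nPts, InA q → rho (Fi24Class.trp ptE) q = q → Commute c (uu q) := by
    intro q hq hqE
    have hsub : rho (eA⁻¹ * uu q * eA) pt0 = pt0 := by
      have e1 : rho (Fi24Class.trp q) ptE = ptE := by
        rw [← Fi24Class.commute_trp_iff]; exact ((Fi24Class.commute_trp_iff ptE q).2 hqE).symm
      have e2 : rho zee ptE = ptE := by rw [rho_zee]; exact ((inA_iff ptE).1 inA_ptE).2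
      rw [Fi24Class.rho_mul, Fi24Class.rho_mul, a0, uu, Fi24Class.rho_mul, e1, e2, ← a0, rho_inv_apply]
    have hM' : eA⁻¹ * uu q * eA ∈ M₀ := M₀.mul_mem (M₀.mul_mem (M₀.inv_mem eA_M) (uu_M q)) eA_M
    have e := h (mA⁻¹ * mU q * mA) ⟨mem_subX.2 hsub, hM'⟩
    rw [map_mul, map_mul, map_inv, h (mU q) (uu_K hq)] at e
    have e' : b⁻¹ * uu q * b = eA⁻¹ * uu q * eA := hb ▸ congrArg Subtype.val e
    show c * uu q = uu q * c
    rw [hc]
    calc b * eA⁻¹ * uu q = b * (eA⁻¹ * uu q * eA) * eA⁻¹ := by group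
      _ = uu q * (b * eA⁻¹) := by rw [← e']; group
  have hEF : rho (Fi24Class.trp ptE) ptF = ptF := (Fi24Class.commute_trp_iff ptE ptF).1 commute_trpEF
  obtain ⟨i, hi, hpts⟩ := cyclic_on_pts hcM hcY
  have h0 := hpts pt0 (by simp)
  have hF := hpts ptF (by simp)
  have e : c * uu ptF * c⁻¹ = uu ptF := by rw [(hO ptF inA_ptF hEF).eq, mul_inv_cancel_right]
  rw [uu, ← trp_pt0, show c * (Fi24Class.trp pt0 * Fi24Class.trp ptF) * c⁻¹ =
    c * Fi24Class.trp pt0 * c⁻¹ * (c * Fi24Class.trp ptF * c⁻¹) by group, ← trp_smul, ← trp_smul, h0, hF] at e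
  have hfix : rho c pt0 = pt0 := by
    interval_cases i
    · simpa using h0
    · exfalso
      simp only [pow_one, a0, a2] at e
      have hz : Commute (Fi24Class.trp pt0) (Fi24Class.trp ptE) := trp_pt0 ▸ commute_zee_trp inA_ptE
      rw [← hz.eq] at e
      exact pts_ne.2.2 (trp_injective (mul_left_cancel e))
    · exfalso
      simp only [pow_two, Fi24Class.rho_mul, a0, a1, a2] at e
      have hz : Commute (Fi24Class.trp pt0) (Fi24Class.trp ptF) := trp_pt0 ▸ commute_zee_trp inA_ptF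
      rw [hz.eq] at e
      exact pts_ne.1 (trp_injective (mul_left_cancel e)).symm
  obtain ⟨k, rfl⟩ := exists_iota (x := c) ⟨mem_subX.2 hfix, hcM⟩
  have hk : ∀ d : Fi23Out.Pt, Fi23Out.trp eP • d = d → k • d = d := by
    intro d hd
    have hE' : rho (Fi24Class.trp ptE) (phiQ d) = phiQ d := by rw [← phiQ_eP]; exact (trp_phiQ_fix eP d).2 hd
    have h1 := hO _ (phiQ_inA d) hE'
    have h2 : iota k * zee = zee * iota k := (commute_zero_subX (iota_mem k).1).eq
    have h3 : Commute (iota k) (Fi24Class.trp (phiQ d)) := by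
      have h4 := (show Commute (iota k) zee from h2).mul_right h1
      rwa [uu, ← mul_assoc, Fi24Class.sq_gen, one_mul] at h4
    refine phiQ_injective ((rho_iota k d).symm.trans (trp_injective ?_))
    rw [trp_smul, h3.eq, mul_inv_cancel_right]
  obtain ⟨g, hgK, hgA⟩ : ∃ g : X₀, (∀ m ∈ K₀, g * m * g⁻¹ = m) ∧ g * eA * g⁻¹ = b := by
    have hbc : b = iota k * eA := by rw [hc, inv_mul_cancel_right]
    rcases centralizer_nbhd hk with hk1 | hk1
    · refine ⟨1, fun m _ => by simp, ?_⟩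
      rw [hbc, hk1, map_one]
      simp
    · refine ⟨zee, fun m hm => ?_, ?_⟩
      · rw [← (commute_zero_subX hm.1).eq, mul_inv_cancel_right]
      · have hz : eA * zee * eA⁻¹ = Fi24Class.trp ptE := by rw [← trp_pt0, trp_map_fix a0]
        rw [hbc, hk1, iota_trp, phiQ_eP, ← hz, gen_inv]
        group
  refine ⟨g, ?_⟩
  let L : Subgroup M₀ :=
    { carrier := {m | (α m : X₀) = g * m * g⁻¹}
      one_mem' := by simp
      mul_mem' := fun {x y} hx hy => by
        simp only [Set.mem_setOf_eq, map_mul, Subgroup.coe_mul] at *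
        rw [hx, hy]; group
      inv_mem' := fun {x} hx => by
        simp only [Set.mem_setOf_eq, map_inv, Subgroup.coe_inv] at *
        rw [hx]; group }
  have hK : K₀ ≤ L.map M₀.subtype := fun m hm =>
    ⟨⟨m, hm.2⟩, (congrArg Subtype.val (h ⟨m, hm.2⟩ hm)).trans (hgK m hm).symm, rfl⟩
  have hA : eA ∈ L.map M₀.subtype := ⟨mA, (hb.symm.trans hgA.symm), rfl⟩
  have htop := (eq_M_of_K_A (Subgroup.map_subtype_le L) hK hA).2
  intro m
  have hm : (m : X₀) ∈ L.map M₀.subtype := htop.symm ▸ m.2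
  obtain ⟨m', hm', e'⟩ := hm
  rw [← (Subtype.ext e' : m' = m)]
  exact hm'

/-- Every automorphism is induced by conjugation in the whole group. -/
theorem aut_conj (α : MulAut M₀) : ∃ g : X₀, ∀ m : M₀, (α m : X₀) = g * m * g⁻¹ := by
  obtain ⟨g1, h1S, h1Y⟩ := exists_step α
  obtain ⟨g2, h2⟩ := inner_on_K (maps_K h1S h1Y)
  obtain ⟨g, hg⟩ := fix_K_cases h2
  refine ⟨((g2 * g1 : M₀) : X₀)⁻¹ * g, fun m => ?_⟩
  have e := hg m
  simp only [MulAut.mul_apply, MulAut.conj_apply, Subgroup.coe_mul, Subgroup.coe_inv] at e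
  rw [Subgroup.coe_mul]
  generalize (α m : X₀) = a at e ⊢
  generalize (g1 : X₀) = u at e ⊢
  generalize (g2 : X₀) = v at e ⊢
  calc a = (v * u)⁻¹ * (v * (u * a * u⁻¹) * v⁻¹) * (v * u) := by group
    _ = _ := by rw [e]; group

theorem card_out_M : Nat.card (Cfsg.Out M₀) = 2 := by
  let f : X₀ →* MulAut M₀ := MulAut.conjNormal
  have hf : Function.Surjective f := fun α => by
    obtain ⟨g, hg⟩ := aut_conj α
    exact ⟨g, MulEquiv.ext fun m => Subtype.ext ((MulAut.conjNormal_apply g m).trans (hg m).symm)⟩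
  have hinn : (Cfsg.Inn M₀).comap f = M₀ := by
    ext x
    constructor
    · rintro ⟨m, hm⟩
      have hc : (m : X₀)⁻¹ * x = 1 := eq_one_of_commute fun n hn => by
        have e : ((MulAut.conj m ⟨n, hn⟩ : M₀) : X₀) = (MulAut.conjNormal x ⟨n, hn⟩ : M₀) :=
          congrArg Subtype.val (DFunLike.congr_fun hm ⟨n, hn⟩)
        rw [MulAut.conjNormal_apply, MulAut.conj_apply] at e
        simp only [Subgroup.coe_mul, Subgroup.coe_inv] at e
        show (m : X₀)⁻¹ * x * n = n * ((m : X₀)⁻¹ * x)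
        calc (m : X₀)⁻¹ * x * n = (m : X₀)⁻¹ * (x * n * x⁻¹) * x := by group
          _ = _ := by rw [← e]; group
      rw [← inv_mul_eq_one.1 hc]
      exact m.2
    · intro hx
      exact ⟨⟨x, hx⟩, MulEquiv.ext fun n => Subtype.ext (by
        simp [f, MulAut.conjNormal_apply, MulAut.conj_apply])⟩
  show (Cfsg.Inn M₀).index = 2
  rw [← Subgroup.index_comap_of_surjective _ hf, hinn, index_M]

theorem card_out : Nat.card (Cfsg.Out Cfsg.Spor.Fi24') = 2 := by
  obtain ⟨e, -⟩ := exists_equiv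
  have h : M₀.map e.toMonoidHom = commutator Cfsg.Spor.Fi24 := by
    rw [M₀, map_commutator_eq, MonoidHom.range_eq_top.2 e.surjective]
    rfl
  let f : M₀ ≃* Cfsg.Spor.Fi24' := (e.subgroupMap M₀).trans (MulEquiv.subgroupCongr h)
  let E : MulAut M₀ ≃* MulAut Cfsg.Spor.Fi24' := MulAut.congr f
  have hE : (Cfsg.Inn M₀).map (E : MulAut M₀ →* MulAut Cfsg.Spor.Fi24') = Cfsg.Inn Cfsg.Spor.Fi24' := by
    ext φ
    constructor
    · rintro ⟨_, ⟨g, rfl⟩, rfl⟩
      exact ⟨f g, MulEquiv.ext fun y => by simp [E, MulAut.congr]⟩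
    · rintro ⟨g, rfl⟩
      exact ⟨MulAut.conj (f.symm g), ⟨_, rfl⟩, MulEquiv.ext fun y => by simp [E, MulAut.congr]⟩
  rw [← card_out_M]
  exact (Nat.card_congr (QuotientGroup.congr _ _ E hE).toEquiv).symm

end

end CfsgLib.Spor.Fi24Out
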